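import Cfsg.Agent.H256.RC.ZBase
import Cfsg.Agent.H393.RC.TriZ

/-!
# S3510, triality, type iii: the boxes ZN9 and ZA (helper393)
-/

set_option autoImplicit false

namespace Cfsg.Agent.H393.TZ

open Module QuadraticMap Cfsg.Agent.LieClassical.OrthCore Cfsg.Agent.LieClassical.OrthTrans
  Cfsg.Agent.LieClassical.OrthSimple Cfsg.Agent.LieClassical.QuadForms
  Cfsg.Agent.ClassicalGeometry.TrialityOct Cfsg.Agent.ClassicalGeometry.Triality
  Cfsg.Agent.H198.TriBase Cfsg.Agent.H198.TriAut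
  Cfsg.Agent.H198.TriDia Cfsg.Agent.H198.TriTC Cfsg.Agent.H198.TwComp

universe u

variable {F : Type u} [Field F]

/-- the numbers: `q = q0 ^ 3`, `q0 = p ^ k`, `s a = a ^ (p ^ n)` -/
theorem numbers [Finite F] {s : F ≃+* F} (h3 : ∀ a, s (s (s a)) = a) (hne : s ≠ RingEquiv.refl F) :
    ∃ p k n : ℕ, p.Prime ∧ k ≠ 0 ∧ CharP F p ∧ Nat.card F = (p ^ k) ^ 3 ∧ (∀ a : F, s a = a ^ (p ^ n)) ∧
      (n = k ∨ n = 2 * k) := by
  obtain ⟨q0, _, hq, hpp, _, hs⟩ := Cfsg.Agent.H256.RC.BQ h3 hne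
  obtain ⟨p, k, hp, hk, rfl⟩ := hpp
  have hp' : p.Prime := hp.nat_prime
  have hch : CharP F p := by
    obtain ⟨r, hr⟩ := CharP.exists F
    have hrp : r.Prime := (CharP.char_is_prime_or_zero F r).resolve_right
      (fun h0 => CharP.char_ne_zero_of_finite F r h0)
    have hfr : Fact r.Prime := ⟨hrp⟩
    obtain ⟨m, hm⟩ : ∃ m, Nat.card F = r ^ m := by
      have := Fintype.ofFinite F
      obtain ⟨m, _, hm⟩ := FiniteField.card F r
      exact ⟨m, by rw [Nat.card_eq_fintype_card, hm]⟩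
    have h1 : p ∣ r ^ m := by
      rw [← hm, hq, ← pow_mul]
      exact dvd_pow_self p (by omega)
    have h2 := (Nat.prime_dvd_prime_iff_eq hp' hrp).1 (hp'.dvd_of_dvd_pow h1)
    rw [h2]
    exact hr
  rcases hs with hs | hs
  · exact ⟨p, k, k, hp', hk.ne', hch, hq, hs, Or.inl rfl⟩
  · refine ⟨p, k, 2 * k, hp', hk.ne', hch, hq, fun a => ?_, Or.inr rfl⟩
    rw [hs, ← pow_mul p k 2, mul_comm k 2]

theorem finrank8 : Module.finrank F (V8 F) = 8 := by
  rw [Module.finrank_fintype_fun_eq_card]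
  rfl

theorem ZN9 [Finite F] {s : F ≃+* F} (h3 : ∀ a, s (s (s a)) = a) (hne : s ≠ RingEquiv.refl F)
    {c : V8 F ≃ₗ[F] V8 F} (hc : c ∈ AutD (fG s)) {l : ℕ} (hl : l.Prime) (hl3 : l ≠ 3)
    (h1 : l ∣ Nat.card F ^ 2 + Nat.card F + 1 ∨ l ∣ Nat.card F ^ 2 - Nat.card F + 1) (hcl : c ^ l = 1) :
    c = 1 := by
  obtain ⟨p, k, n, hp, hk, hch, hq, hs, hn⟩ := numbers h3 hne
  have hfp : Fact p.Prime := ⟨hp⟩
  refine z9 (p := p) (n := n) (m := k * 3) (Cfsg.Agent.H256.RC.tc_fG h3) nondeg8 finrank8 hs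
    (by rw [hq, ← pow_mul]) (c := c) (E_le_O hc.1) hc.2 hl hl3 ?_ ?_ hcl
  · rcases hn with rfl | rfl
    · left
      rw [hq]
      push_cast
      rfl
    · right
      rw [hq]
      push_cast
      ring
  · rcases h1 with h1 | h1
    · left
      have h2 := (ZMod.natCast_eq_zero_iff _ _).2 h1
      push_cast at h2
      exact h2
    · right
      have h2 := (ZMod.natCast_eq_zero_iff _ _).2 h1
      have h4 : Nat.card F ≤ Nat.card F ^ 2 := Nat.le_self_pow (by norm_num) _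
      rw [Nat.cast_add, Nat.cast_sub h4] at h2
      push_cast at h2
      exact h2

theorem eg_eq_fx (c : V8 F ≃ₗ[F] V8 F) :
    Module.End.eigenspace (c : V8 F →ₗ[F] V8 F) (1 : F) = fx c := by
  ext v
  rw [Module.End.mem_eigenspace_iff, one_smul]
  rfl

theorem two_case : ∀ b : ZMod 2, b ^ 6 = 1 → b ^ 2 = 1 := by decide

theorem ZA [Finite F] {s : F ≃+* F} (h3 : ∀ a, s (s (s a)) = a) (hne : s ≠ RingEquiv.refl F) {q0 : ℕ}
    (hq : Nat.card F = q0 ^ 3) {c : V8 F ≃ₗ[F] V8 F} (hc : c ∈ AutD (fG s)) {l : ℕ} (hl : l.Prime)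
    (h1 : l ∣ Nat.card F ^ 2 - 1) (h2 : ¬ l ∣ q0 ^ 2 - 1) (hcl : c ^ l = 1) (hc1 : c ≠ 1) :
    finrank F (Module.End.eigenspace (c : V8 F →ₗ[F] V8 F) (1 : F)) = 0 ∨
      finrank F (Module.End.eigenspace (c : V8 F →ₗ[F] V8 F) (1 : F)) = 2 := by
  obtain ⟨p, k, n, hp, hk, hch, hq', hs, hn⟩ := numbers h3 hne
  have hfp : Fact p.Prime := ⟨hp⟩
  have hfl : Fact l.Prime := ⟨hl⟩
  have hq0 : q0 = p ^ k := by
    rw [hq] at hq'
    exact Nat.pow_left_injective (by norm_num) hq'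
  have hq1 : 1 ≤ q0 := by
    rw [hq0]
    exact Nat.one_le_pow _ _ hp.pos
  obtain ⟨a, ha⟩ : ∃ a : ZMod l, a = ((q0 : ℕ) : ZMod l) := ⟨_, rfl⟩
  have ha6 : a ^ 6 = 1 := by
    have h4 : 1 ≤ (q0 ^ 3) ^ 2 := Nat.one_le_pow _ _ (Nat.one_le_pow _ _ hq1)
    rw [hq] at h1
    have h5 := (ZMod.natCast_eq_zero_iff _ _).2 h1
    rw [Nat.cast_sub h4] at h5
    push_cast at h5
    rw [← ha] at h5
    linear_combination h5
  have ha2 : a ^ 2 ≠ 1 := by
    intro h5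
    apply h2
    apply (ZMod.natCast_eq_zero_iff _ _).1
    rw [Nat.cast_sub (Nat.one_le_pow _ _ hq1)]
    push_cast
    rw [← ha, h5, sub_self]
  have hl2 : l ≠ 2 := by
    rintro rfl
    exact ha2 (two_case a ha6)
  have hlp : l ≠ p := by
    rintro rfl
    have h5 : a = 0 := by
      rw [ha, hq0, Nat.cast_pow, CharP.cast_eq_zero (ZMod l) l, zero_pow hk]
    rw [h5] at ha6
    simp at ha6
  have hb : (((p ^ n : ℕ) : ZMod l)) = a ∨ (((p ^ n : ℕ) : ZMod l)) = a ^ 2 := by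
    rcases hn with rfl | rfl
    · left
      rw [ha, hq0]
    · right
      rw [ha, hq0]
      push_cast
      ring
  have key := za (p := p) (n := n) (Cfsg.Agent.H256.RC.tc_fG h3) nondeg8 finrank8 hs (c := c) (E_le_O hc.1) hc.2
    hl hl2 hlp ?_ ?_ hcl hc1
  · rw [eg_eq_fx]
    rcases key with h | h
    · left
      rw [h]
      exact finrank_bot F _
    · exact Or.inr h
  · rcases hb with hb | hb
    · rw [hb, ha6]
    · rw [hb, ← pow_mul, mul_comm, pow_mul, ha6, one_pow]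
  · rcases hb with hb | hb
    · rw [hb]
      exact ha2
    · rw [hb]
      intro h5
      apply ha2
      have h6 : a ^ 6 = (a ^ 2) ^ 2 * a ^ 2 := by ring
      rw [h5, ha6, one_mul] at h6
      exact h6.symm

end Cfsg.Agent.H393.TZ
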