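import Cfsg.Agent.H393.RC.OrdSum

/-!
# S3510, the covering lemma (R3) (helper393)

`x i` of prime order `r i` (the `r i` distinct), all normalising the finite `l`-group `U` (abelian if some `r i = l`):
if the `U`-orbit `D` is covered by the fixed points of the `x i`, then some `x i` is trivial on `D`.
-/

set_option autoImplicit false

namespace Cfsg.Agent.H393.RC

open Subgroup MulAction

variable {X Ω : Type*} [Group X] [MulAction X Ω]

theorem conj_mem_of_zpowers {U : Subgroup X} {x : X} (hn : x ∈ normalizer (U : Set X)) {g : X} (hg : g ∈ zpowers x) {u : X}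
    (hu : u ∈ U) : g * u * g⁻¹ ∈ U := by
  have : g ∈ normalizer (U : Set X) := (zpowers_le.2 hn) hg
  exact (mem_normalizer_iff.1 this u).1 hu

theorem smul_eq_of_zpowers {x : X} {w : Ω} (hw : x • w = w) {g : X} (hg : g ∈ zpowers x) : g • w = w := by
  have : x ∈ stabilizer X w := hw
  exact (zpowers_le.2 this) hg

theorem isPGroup_zpowers {x : X} {r : ℕ} (hx : x ^ r = 1) : IsPGroup r (zpowers x) := by
  intro g
  refine ⟨1, ?_⟩
  obtain ⟨k, hk⟩ := mem_zpowers_iff.1 g.2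
  apply Subtype.ext
  rw [pow_one, coe_pow, ← hk, coe_one, ← zpow_natCast, ← zpow_mul, mul_comm, zpow_mul, zpow_natCast, hx, one_zpow]

/-- conjugation of `⟨x⟩` on the elements of `U` moving `w` to `w'` -/
@[reducible]
def conjAct (U : Subgroup X) (x : X) (w w' : Ω) (hn : x ∈ normalizer (U : Set X)) (hw : x • w = w) (hw' : x • w' = w') :
    MulAction (zpowers x) {v : X // v ∈ U ∧ v • w = w'} where
  smul g v := ⟨g * v * (g : X)⁻¹, conj_mem_of_zpowers hn g.2 v.2.1, by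
    rw [mul_smul, mul_smul, smul_eq_of_zpowers hw (inv_mem g.2), v.2.2, smul_eq_of_zpowers hw' g.2]⟩
  one_smul v := Subtype.ext (by
    change ((1 : zpowers x) : X) * v * ((1 : zpowers x) : X)⁻¹ = v
    simp)
  mul_smul g h v := Subtype.ext (by
    change ((g * h : zpowers x) : X) * v * ((g * h : zpowers x) : X)⁻¹ = g * (h * v * (h : X)⁻¹) * (g : X)⁻¹
    simp [mul_assoc])

/-- the stabilizer of `w` in `U`, as a subgroup of `U`; the elements of `U` moving `w` to `w' = u w` are a coset -/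
theorem card_transporter (U : Subgroup X) [Finite U] {w w' : Ω} {u : X} (hu : u ∈ U) (h : u • w = w') :
    Nat.card {v : X // v ∈ U ∧ v • w = w'} = Nat.card (stabilizer U w) := by
  refine Nat.card_congr ⟨fun v => ⟨⟨u⁻¹ * v, mul_mem (inv_mem hu) v.2.1⟩, ?_⟩, fun v => ⟨u * v.1, mul_mem hu v.1.2, ?_⟩,
    fun v => ?_, fun v => ?_⟩
  · change (u⁻¹ * (v : X)) • w = w
    rw [mul_smul, v.2.2, ← h, inv_smul_smul]
  · have : ((v.1 : U) : X) • w = w := v.2
    rw [mul_smul, this, h]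
  · exact Subtype.ext (by simp)
  · exact Subtype.ext (Subtype.ext (by simp))

theorem exists_comm {U : Subgroup X} [Finite U] {l : ℕ} (hl : l.Prime) (hU : IsPGroup l U) {x : X} {r : ℕ} (hr : r.Prime)
    (hrl : r ≠ l) (hx : x ^ r = 1) (hn : x ∈ normalizer (U : Set X)) {w w' : Ω} (hw : x • w = w) (hw' : x • w' = w') {u : X}
    (hu : u ∈ U) (h : u • w = w') : ∃ v ∈ U, v * x = x * v ∧ v • w = w' := by
  have hlf : Fact l.Prime := ⟨hl⟩
  have hrf : Fact r.Prime := ⟨hr⟩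
  let _ := conjAct U x w w' hn hw hw'
  have hfin : Finite {v : X // v ∈ U ∧ v • w = w'} :=
    Finite.of_injective (fun v => (⟨v.1, v.2.1⟩ : U)) fun a b hab =>
      Subtype.ext (congrArg (fun u : U => (u : X)) hab)
  have h1 := (isPGroup_zpowers (r := r) hx).card_modEq_card_fixedPoints {v : X // v ∈ U ∧ v • w = w'}
  have h2 : ¬ r ∣ Nat.card {v : X // v ∈ U ∧ v • w = w'} := by
    rw [card_transporter U hu h]
    obtain ⟨n, hn⟩ := IsPGroup.iff_card.1 (hU.to_subgroup (stabilizer U w))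
    rw [hn]
    intro hd
    exact hrl ((Nat.prime_dvd_prime_iff_eq hr hl).1 (hr.dvd_of_dvd_pow hd))
  have h3 : Nat.card (fixedPoints (zpowers x) {v : X // v ∈ U ∧ v • w = w'}) ≠ 0 := by
    intro h0
    rw [h0] at h1
    exact h2 ((Nat.modEq_zero_iff_dvd).1 h1)
  have h4 : Nonempty (fixedPoints (zpowers x) {v : X // v ∈ U ∧ v • w = w'}) := by
    by_contra hne
    rw [not_nonempty_iff] at hne
    exact h3 Nat.card_of_isEmpty
  obtain ⟨v, hv⟩ := h4
  refine ⟨v.1, v.2.1, ?_, v.2.2⟩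
  have h5 := congrArg Subtype.val (hv ⟨x, mem_zpowers x⟩)
  change x * v.1 * x⁻¹ = v.1 at h5
  rw [mul_inv_eq_iff_eq_mul] at h5
  exact h5.symm

/-- the fixed points of `x` on the orbit of a fixed point -/
theorem exists_sub {U : Subgroup X} [Finite U] {l : ℕ} (hl : l.Prime) (hU : IsPGroup l U) {x : X} {r : ℕ} (hr : r.Prime)
    (hx : x ^ r = 1) (hn : x ∈ normalizer (U : Set X)) (hab : r = l → ∀ a ∈ U, ∀ b ∈ U, a * b = b * a) {w : Ω} (hw : x • w = w) :
    ∃ W : Subgroup X, W ≤ U ∧ {w' ∈ orbit U w | x • w' = w'} = orbit W w := by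
  by_cases hrl : r = l
  · have hab := hab hrl
    have hc : ∀ a ∈ U, x * a * x⁻¹ ∈ U := fun a ha => (mem_normalizer_iff.1 hn a).1 ha
    refine ⟨{ carrier := {u | u ∈ U ∧ (x * u * x⁻¹) • w = u • w}
              mul_mem' := ?_
              one_mem' := ?_
              inv_mem' := ?_ }, fun u hu => hu.1, ?_⟩
    · intro a b ha hb
      refine ⟨mul_mem ha.1 hb.1, ?_⟩
      calc (x * (a * b) * x⁻¹) • w = ((x * a * x⁻¹) * (x * b * x⁻¹)) • w := by congr 1; group
        _ = (x * a * x⁻¹) • (b • w) := by rw [mul_smul, hb.2]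
        _ = (b * (x * a * x⁻¹)) • w := by rw [← mul_smul, hab _ (hc a ha.1) b hb.1]
        _ = (b * a) • w := by rw [mul_smul, ha.2, ← mul_smul]
        _ = (a * b) • w := by rw [hab a ha.1 b hb.1]
    · exact ⟨one_mem _, by simp⟩
    · intro a ha
      refine ⟨inv_mem ha.1, ?_⟩
      have h1 : (x * a⁻¹ * x⁻¹) * a = a * (x * a⁻¹ * x⁻¹) := (hab a ha.1 _ (hc _ (inv_mem ha.1))).symm
      calc (x * a⁻¹ * x⁻¹) • w = a⁻¹ • ((a * (x * a⁻¹ * x⁻¹)) • w) := by
              rw [← mul_smul, inv_mul_cancel_left]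
        _ = a⁻¹ • ((x * a⁻¹ * x⁻¹) • ((x * a * x⁻¹) • w)) := by rw [← h1, mul_smul, ha.2]
        _ = a⁻¹ • w := by rw [← mul_smul (x * a⁻¹ * x⁻¹)]; congr 1; simp
    · ext w'
      constructor
      · rintro ⟨⟨u, rfl⟩, h2⟩
        refine ⟨⟨u.1, u.2, ?_⟩, rfl⟩
        change x • ((u : X) • w) = (u : X) • w at h2
        rw [mul_smul, mul_smul, inv_smul_eq_iff.2 hw.symm, h2]
      · rintro ⟨u, rfl⟩
        refine ⟨⟨⟨u.1, u.2.1⟩, rfl⟩, ?_⟩
        change x • ((u : X) • w) = (u : X) • w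
        have h2 := u.2.2
        rw [mul_smul, mul_smul, inv_smul_eq_iff.2 hw.symm] at h2
        exact h2
  · refine ⟨U ⊓ centralizer {x}, inf_le_left, ?_⟩
    ext w'
    constructor
    · rintro ⟨⟨u, hu⟩, h2⟩
      obtain ⟨v, hv, hvx, hvw⟩ := exists_comm hl hU hr hrl hx hn hw h2 u.2 hu
      exact ⟨⟨v, hv, mem_centralizer_singleton_iff.2 hvx⟩, hvw⟩
    · rintro ⟨u, rfl⟩
      refine ⟨⟨⟨u.1, u.2.1⟩, rfl⟩, ?_⟩
      change x • ((u : X) • w) = (u : X) • w
      have := mem_centralizer_singleton_iff.1 u.2.2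
      rw [← mul_smul, ← this, mul_smul, hw]

/-- `⟨x⟩` acts on the `U`-orbit of a fixed point -/
@[reducible]
def orbAct (U : Subgroup X) (x : X) (w : Ω) (hn : x ∈ normalizer (U : Set X)) (hw : x • w = w) :
    MulAction (zpowers x) (orbit U w) where
  smul g v := ⟨(g : X) • (v : Ω), by
    obtain ⟨u, hu⟩ := v.2
    refine ⟨⟨g * u * (g : X)⁻¹, conj_mem_of_zpowers hn g.2 u.2⟩, ?_⟩
    rw [← hu]
    change ((g : X) * u * (g : X)⁻¹) • w = (g : X) • ((u : X) • w)
    rw [mul_smul, mul_smul, smul_eq_of_zpowers hw (inv_mem g.2)]⟩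
  one_smul v := Subtype.ext (one_smul X (v : Ω))
  mul_smul g h v := Subtype.ext (mul_smul (g : X) (h : X) (v : Ω))

theorem modEq_fix {U : Subgroup X} [Finite U] {x : X} {r : ℕ} (hr : r.Prime)
    (hx : x ^ r = 1) (hn : x ∈ normalizer (U : Set X)) {w : Ω} (hw : x • w = w) :
    Nat.card (orbit U w) ≡ Nat.card {w' : Ω // w' ∈ orbit U w ∧ x • w' = w'} [MOD r] := by
  have hrf : Fact r.Prime := ⟨hr⟩
  let _ := orbAct U x w hn hw
  have hfin : Finite (orbit U w) := Set.finite_range _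
  have h1 := (isPGroup_zpowers (r := r) hx).card_modEq_card_fixedPoints (orbit U w)
  have h2 : Nat.card (fixedPoints (zpowers x) (orbit U w)) = Nat.card {w' : Ω // w' ∈ orbit U w ∧ x • w' = w'} := by
    refine Nat.card_congr ⟨fun v => ⟨v.1.1, v.1.2, congrArg Subtype.val (v.2 ⟨x, mem_zpowers x⟩)⟩,
      fun v => ⟨⟨v.1, v.2.1⟩, fun g => Subtype.ext (smul_eq_of_zpowers v.2.2 g.2)⟩, fun v => rfl, fun v => rfl⟩
  rw [h2] at h1
  exact h1

/-- the fixed points of `x` on the orbit `U w`, when `x` is not trivial on the orbit -/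
theorem card_fix_le {U : Subgroup X} [Finite U] {l : ℕ} (hl : l.Prime) (hU : IsPGroup l U) {x : X} {r : ℕ} (hr : r.Prime)
    (hx : x ^ r = 1) (hn : x ∈ normalizer (U : Set X)) (hab : r = l → ∀ a ∈ U, ∀ b ∈ U, a * b = b * a) {w : Ω}
    (hnt : ∃ w' ∈ orbit U w, x • w' ≠ w') :
    (Nat.card {w' : Ω // w' ∈ orbit U w ∧ x • w' = w'} : ℚ) ≤
      Nat.card (orbit U w) * (if r = l then (l : ℚ)⁻¹ else ((l : ℚ)⁻¹) ^ od l r) := by
  have hlf : Fact l.Prime := ⟨hl⟩
  have hrf : Fact r.Prime := ⟨hr⟩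
  have hl0 : (0 : ℚ) < l := by exact_mod_cast hl.pos
  have hpos : (0 : ℚ) ≤ if r = l then (l : ℚ)⁻¹ else ((l : ℚ)⁻¹) ^ od l r := by
    split <;> positivity
  have hfin : Finite (orbit U w) := Set.finite_range _
  by_cases hne : ∃ w₀ ∈ orbit U w, x • w₀ = w₀
  swap
  · have : IsEmpty {w' : Ω // w' ∈ orbit U w ∧ x • w' = w'} := ⟨fun v => hne ⟨v.1, v.2⟩⟩
    rw [Nat.card_of_isEmpty, Nat.cast_zero]
    positivity
  obtain ⟨w₀, hw₀, hxw⟩ := hne
  have ho : orbit U w₀ = orbit U w := orbit_eq_iff.2 hw₀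
  rw [← ho] at hnt ⊢
  rw [← ho] at hfin
  obtain ⟨W, hWU, hW⟩ := exists_sub hl hU hr hx hn hab hxw
  have hWfin : Finite W := Finite.of_injective (inclusion hWU) (inclusion_injective hWU)
  obtain ⟨b, hb⟩ : ∃ b, Nat.card (orbit U w₀) = l ^ b := hU.card_orbit w₀
  have hfinW : Finite (orbit W w₀) := Set.finite_range _
  obtain ⟨a, ha⟩ : ∃ a, Nat.card (orbit W w₀) = l ^ a := (hU.of_injective (inclusion hWU) (inclusion_injective hWU)).card_orbit w₀
  have hcard : Nat.card {w' : Ω // w' ∈ orbit U w₀ ∧ x • w' = w'} = l ^ a := by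
    rw [← ha, ← hW]
    rfl
  have hlt : l ^ a < l ^ b := by
    rw [← ha, ← hb, ← hW, Nat.card_coe_set_eq, Nat.card_coe_set_eq]
    refine Set.ncard_lt_ncard ⟨fun v hv => hv.1, fun h => ?_⟩ (Set.toFinite _)
    obtain ⟨w', h1, h2⟩ := hnt
    exact h2 (h h1).2
  have hab' : a < b := (Nat.pow_lt_pow_iff_right hl.one_lt).1 hlt
  rw [hcard, hb]
  by_cases hrl : r = l
  · rw [if_pos hrl]
    obtain ⟨c, rfl⟩ : ∃ c, b = c + 1 := ⟨b - 1, by omega⟩
    push_cast
    rw [pow_succ, mul_assoc, mul_inv_cancel₀ hl0.ne', mul_one]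
    exact pow_le_pow_right₀ (by exact_mod_cast hl.one_lt.le) (by omega)
  · rw [if_neg hrl]
    have h1 := modEq_fix hr hx hn hxw
    rw [hcard, hb] at h1
    have h2 : r ∣ l ^ (b - a) - 1 := by
      have h3 : r ∣ l ^ b - l ^ a := (Nat.modEq_iff_dvd' hlt.le).1 h1.symm
      have h4 : l ^ b - l ^ a = l ^ a * (l ^ (b - a) - 1) := by
        rw [Nat.mul_sub, ← pow_add, mul_one]
        congr 2
        omega
      rw [h4] at h3
      refine (Nat.Coprime.dvd_of_dvd_mul_left ?_ h3)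
      exact Nat.Coprime.pow_right _ ((Nat.coprime_primes hr hl).2 hrl)
    rw [dvd_pow_sub_one_iff hl.one_lt.le] at h2
    have h5 : od l r ≤ b - a := Nat.le_of_dvd (by omega) h2
    obtain ⟨c, rfl⟩ : ∃ c, b = c + od l r := ⟨b - od l r, by omega⟩
    push_cast
    rw [pow_add, mul_assoc, ← mul_pow, mul_inv_cancel₀ hl0.ne', one_pow, mul_one]
    exact pow_le_pow_right₀ (by exact_mod_cast hl.one_lt.le) (by omega)

/-- **(R3)** the covering lemma -/
theorem exists_trivial {ι : Type*} [Finite ι] (x : ι → X) (r : ι → ℕ) (hr : ∀ i, (r i).Prime)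
    (hinj : Function.Injective r) (hx : ∀ i, x i ^ r i = 1) {l : ℕ} (hl : l.Prime) (U : Subgroup X) [Finite U]
    (hU : IsPGroup l U) (hn : ∀ i, x i ∈ normalizer (U : Set X)) (hab : ∀ i, r i = l → ∀ a ∈ U, ∀ b ∈ U, a * b = b * a)
    (w : Ω) (hcov : ∀ w' ∈ orbit U w, ∃ i, x i • w' = w') : ∃ i, ∀ w' ∈ orbit U w, x i • w' = w' := by
  classical
  by_contra hcon
  push Not at hcon
  have := Fintype.ofFinite ι
  have hfin : Finite (orbit U w) := Set.finite_range _
  have h1 : Nat.card (orbit U w) ≤ ∑ i, Nat.card {w' : Ω // w' ∈ orbit U w ∧ x i • w' = w'} := by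
    have h2 : ∀ i, Finite {w' : Ω // w' ∈ orbit U w ∧ x i • w' = w'} := fun i =>
      Finite.of_injective (fun v => (⟨v.1, v.2.1⟩ : orbit U w)) fun a b hab =>
        Subtype.ext (congrArg (fun u : orbit U w => (u : Ω)) hab)
    rw [← Nat.card_sigma]
    refine Nat.card_le_card_of_surjective (α := Σ i, {w' : Ω // w' ∈ orbit U w ∧ x i • w' = w'})
      (fun v => ⟨v.2.1, v.2.2.1⟩) fun v => ?_
    obtain ⟨i, hi⟩ := hcov v.1 v.2
    exact ⟨⟨i, v.1, v.2, hi⟩, rfl⟩
  have hpos : 0 < Nat.card (orbit U w) := by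
    have : Nonempty (orbit U w) := ⟨⟨w, mem_orbit_self w⟩⟩
    exact Nat.card_pos
  have h3 : (Nat.card (orbit U w) : ℚ) ≤
      Nat.card (orbit U w) * ∑ i, (if r i = l then (l : ℚ)⁻¹ else ((l : ℚ)⁻¹) ^ od l (r i)) := by
    rw [Finset.mul_sum]
    calc (Nat.card (orbit U w) : ℚ) ≤ ((∑ i, Nat.card {w' : Ω // w' ∈ orbit U w ∧ x i • w' = w'} : ℕ) : ℚ) := by
          exact_mod_cast h1
      _ = ∑ i, (Nat.card {w' : Ω // w' ∈ orbit U w ∧ x i • w' = w'} : ℚ) := by push_cast; rfl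
      _ ≤ _ := Finset.sum_le_sum fun i _ => card_fix_le hl hU (hr i) (hx i) (hn i) (hab i) (hcon i)
  have h4 : ∑ i, (if r i = l then (l : ℚ)⁻¹ else ((l : ℚ)⁻¹) ^ od l (r i)) < 1 := by
    rw [← Finset.sum_filter_add_sum_filter_not Finset.univ (fun i => r i = l)]
    have h5 : ∑ i ∈ Finset.univ.filter (fun i => r i = l), (if r i = l then (l : ℚ)⁻¹ else ((l : ℚ)⁻¹) ^ od l (r i)) ≤
        (l : ℚ)⁻¹ := by
      have h6 : (Finset.univ.filter (fun i => r i = l)).card ≤ 1 := by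
        rw [Finset.card_le_one]
        intro a ha b hb
        exact hinj ((Finset.mem_filter.1 ha).2.trans (Finset.mem_filter.1 hb).2.symm)
      have h7 : ∑ i ∈ Finset.univ.filter (fun i => r i = l), (if r i = l then (l : ℚ)⁻¹ else ((l : ℚ)⁻¹) ^ od l (r i)) =
          ∑ i ∈ Finset.univ.filter (fun i => r i = l), (l : ℚ)⁻¹ :=
        Finset.sum_congr rfl fun i hi => if_pos (Finset.mem_filter.1 hi).2
      rw [h7, Finset.sum_const, nsmul_eq_mul]
      have h8 : ((Finset.univ.filter (fun i => r i = l)).card : ℚ) ≤ 1 := by exact_mod_cast h6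
      calc _ ≤ 1 * (l : ℚ)⁻¹ := mul_le_mul_of_nonneg_right h8 (by positivity)
        _ = _ := one_mul _
    have h9 : ∑ i ∈ Finset.univ.filter (fun i => ¬ r i = l), (if r i = l then (l : ℚ)⁻¹ else ((l : ℚ)⁻¹) ^ od l (r i)) =
        ∑ s ∈ (Finset.univ.filter (fun i => ¬ r i = l)).image r, ((l : ℚ)⁻¹) ^ od l s := by
      rw [Finset.sum_image fun a _ b _ h => hinj h]
      exact Finset.sum_congr rfl fun i hi => if_neg (Finset.mem_filter.1 hi).2
    rw [h9]
    have h10 := sum_lt hl (S := (Finset.univ.filter (fun i => ¬ r i = l)).image r) (by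
      intro s hs
      obtain ⟨i, hi, rfl⟩ := Finset.mem_image.1 hs
      exact ⟨hr i, (Finset.mem_filter.1 hi).2⟩)
    linarith
  have h5 : (0 : ℚ) < Nat.card (orbit U w) := by exact_mod_cast hpos
  nlinarith

/-- **(R3)**, commutator form: for every point `w` there is `i` such that `x i` and all `[u, x i]`, `u ∈ U`, fix `w` -/
theorem exists_comm_fix {ι : Type*} [Finite ι] (x : ι → X) (r : ι → ℕ) (hr : ∀ i, (r i).Prime)
    (hinj : Function.Injective r) (hx : ∀ i, x i ^ r i = 1) {l : ℕ} (hl : l.Prime) (U : Subgroup X) [Finite U]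
    (hU : IsPGroup l U) (hn : ∀ i, x i ∈ normalizer (U : Set X)) (hab : ∀ i, r i = l → ∀ a ∈ U, ∀ b ∈ U, a * b = b * a)
    (hcov : ∀ w' : Ω, ∃ i, x i • w' = w') (w : Ω) :
    ∃ i, x i ∈ stabilizer X w ∧ ∀ u ∈ U, u * x i * u⁻¹ ∈ stabilizer X w ∧ u * x i * u⁻¹ * (x i)⁻¹ ∈ stabilizer X w := by
  obtain ⟨i, hi⟩ := exists_trivial x r hr hinj hx hl U hU hn hab w fun w' _ => hcov w'
  have h0 : x i • w = w := hi w (mem_orbit_self w)
  have h1 : ∀ u ∈ U, u * x i * u⁻¹ ∈ stabilizer X w := by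
    intro u hu
    have h2 := hi ((u⁻¹ : X) • w) ⟨⟨u⁻¹, inv_mem hu⟩, rfl⟩
    rw [mem_stabilizer_iff, mul_smul, mul_smul, h2, smul_inv_smul]
  exact ⟨i, h0, fun u hu => ⟨h1 u hu, mul_mem (h1 u hu) (inv_mem h0)⟩⟩

end Cfsg.Agent.H393.RC
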