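import Mathlib

/-!
# S3510, number theory of (R3): `∑ l ^ (- ord_r(l)) + 1 / l < 1` (helper393)

`l` a prime, `S` a finite set of primes different from `l`; for `l = 2` the sum is `< 1 / 2`, in all cases
`∑_{r ∈ S} l ^ (- orderOf (l : ZMod r)) + 1 / l < 1`.
-/

set_option autoImplicit false

namespace Cfsg.Agent.H393.RC

open Finset

/-- the order of `l` modulo `r` -/
noncomputable def od (l r : ℕ) : ℕ := orderOf ((l : ℕ) : ZMod r)

theorem cast_ne_zero {l r : ℕ} (hl : l.Prime) (hr : r.Prime) (hne : r ≠ l) : ((l : ℕ) : ZMod r) ≠ 0 := by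
  intro h
  rw [ZMod.natCast_eq_zero_iff] at h
  exact hne ((Nat.prime_dvd_prime_iff_eq hr hl).1 h)

theorem od_dvd_sub_one {l r : ℕ} (hl : l.Prime) (hr : r.Prime) (hne : r ≠ l) : od l r ∣ r - 1 := by
  have hf : Fact r.Prime := ⟨hr⟩
  exact orderOf_dvd_of_pow_eq_one (ZMod.pow_card_sub_one_eq_one (cast_ne_zero hl hr hne))

theorem od_pos {l r : ℕ} (hl : l.Prime) (hr : r.Prime) (hne : r ≠ l) : 0 < od l r := by
  have h1 := od_dvd_sub_one hl hr hne
  have := hr.two_le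
  exact Nat.pos_of_dvd_of_pos h1 (by omega)

theorem dvd_pow_sub_one_iff {l r d : ℕ} (hl : 1 ≤ l) : r ∣ l ^ d - 1 ↔ od l r ∣ d := by
  rw [od, orderOf_dvd_iff_pow_eq_one, ← ZMod.natCast_eq_zero_iff, Nat.cast_sub (Nat.one_le_pow _ _ hl),
    Nat.cast_pow, Nat.cast_one, sub_eq_zero]

theorem succ_le {l r : ℕ} (hl : l.Prime) (hr : r.Prime) (hne : r ≠ l) : od l r + 1 ≤ r := by
  have h1 := Nat.le_of_dvd (by have := hr.two_le; omega) (od_dvd_sub_one hl hr hne)
  have := hr.two_le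
  omega

/-- for odd order and odd `r` -/
theorem two_mul_succ_le {l r : ℕ} (hl : l.Prime) (hr : r.Prime) (hne : r ≠ l) (hr2 : r ≠ 2) (ho : od l r % 2 = 1) :
    2 * od l r + 1 ≤ r := by
  have h1 := od_dvd_sub_one hl hr hne
  have h2 : 2 ∣ r - 1 := by
    rcases hr.eq_two_or_odd with h | h
    · exact absurd h hr2
    · omega
  have h3 : 2 * od l r ∣ r - 1 := by
    refine Nat.Coprime.mul_dvd_of_dvd_of_dvd ?_ h2 h1
    rw [Nat.coprime_two_left, Nat.odd_iff]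
    exact ho
  have h4 := Nat.le_of_dvd (by have := hr.two_le; omega) h3
  have := hr.two_le
  omega

/-- product bound: if all primes of `T` are `≥ a` and divide `m > 0` then `a ^ |T| ≤ m` -/
theorem pow_card_le {a m : ℕ} (hm : 0 < m) (T : Finset ℕ) (hT : ∀ r ∈ T, r.Prime) (ha : ∀ r ∈ T, a ≤ r)
    (hd : ∀ r ∈ T, r ∣ m) : a ^ T.card ≤ m := by
  have h1 : ∏ r ∈ T, r ∣ m := Finset.prod_primes_dvd _ (fun r hr => (hT r hr).prime) hd
  calc a ^ T.card = ∏ _r ∈ T, a := by rw [Finset.prod_const]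
    _ ≤ ∏ r ∈ T, r := Finset.prod_le_prod' ha
    _ ≤ m := Nat.le_of_dvd hm h1

/-- the primes of `S` of order `d` -/
noncomputable def fib (l : ℕ) (S : Finset ℕ) (d : ℕ) : Finset ℕ := S.filter fun r => od l r = d

theorem sum_eq (l : ℕ) (S : Finset ℕ) (N : ℕ) (hN : ∀ r ∈ S, od l r < N) :
    ∑ r ∈ S, ((l : ℚ)⁻¹) ^ od l r = ∑ d ∈ range N, ((fib l S d).card : ℚ) * ((l : ℚ)⁻¹) ^ d := by
  rw [← Finset.sum_fiberwise_of_maps_to (s := S) (t := range N) (g := od l) (fun r hr => mem_range.2 (hN r hr))]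
  refine Finset.sum_congr rfl fun d _ => ?_
  rw [fib, ← nsmul_eq_mul, ← Finset.sum_const]
  refine Finset.sum_congr rfl fun r hr => ?_
  rw [(mem_filter.1 hr).2]

theorem card_fib_zero {l : ℕ} (hl : l.Prime) {S : Finset ℕ} (hS : ∀ r ∈ S, r.Prime ∧ r ≠ l) : (fib l S 0).card = 0 := by
  rw [Finset.card_eq_zero, fib, Finset.filter_eq_empty_iff]
  intro r hr h
  have := od_pos hl (hS r hr).1 (hS r hr).2
  omega

theorem fib_le {l : ℕ} (hl : l.Prime) {S : Finset ℕ} (hS : ∀ r ∈ S, r.Prime ∧ r ≠ l) {d : ℕ} (hd : 1 ≤ d) :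
    (d + 1) ^ (fib l S d).card ≤ l ^ d - 1 := by
  have h2 := hl.two_le
  refine pow_card_le ?_ _ ?_ ?_ ?_
  · have : 2 ^ 1 ≤ l ^ d := le_trans (Nat.pow_le_pow_right (by omega) hd) (Nat.pow_le_pow_left h2 d)
    omega
  · exact fun r hr => (hS r (mem_filter.1 hr).1).1
  · intro r hr
    obtain ⟨h1, h2⟩ := mem_filter.1 hr
    rw [← h2]
    exact succ_le hl (hS r h1).1 (hS r h1).2
  · intro r hr
    rw [dvd_pow_sub_one_iff (by omega), (mem_filter.1 hr).2]

theorem fib_le' {l : ℕ} (hl : l.Prime) {S : Finset ℕ} (hS : ∀ r ∈ S, r.Prime ∧ r ≠ l) (h2 : l = 2) {d : ℕ}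
    (ho : d % 2 = 1) : (2 * d + 1) ^ (fib l S d).card ≤ l ^ d - 1 := by
  have hd : 1 ≤ d := by omega
  have h2' := hl.two_le
  refine pow_card_le ?_ _ ?_ ?_ ?_
  · have : 2 ^ 1 ≤ l ^ d := le_trans (Nat.pow_le_pow_right (by omega) hd) (Nat.pow_le_pow_left h2' d)
    omega
  · exact fun r hr => (hS r (mem_filter.1 hr).1).1
  · intro r hr
    obtain ⟨h1, h3⟩ := mem_filter.1 hr
    rw [← h3]
    exact two_mul_succ_le hl (hS r h1).1 (hS r h1).2 (h2 ▸ (hS r h1).2) (by rw [h3]; exact ho)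
  · intro r hr
    rw [dvd_pow_sub_one_iff (by omega), (mem_filter.1 hr).2]

/-- `a ^ n ≤ m < a ^ (k + 1)` gives `n ≤ k` -/
theorem le_of_pow_le {a n m k : ℕ} (ha : 1 < a) (h : a ^ n ≤ m) (hk : m < a ^ (k + 1)) : n ≤ k := by
  have := (Nat.pow_lt_pow_iff_right ha).1 (lt_of_le_of_lt h hk)
  omega

/-! ### the prime 2 -/

/-- the bounds of the counts for `l = 2`, divided by `2 ^ d` -/
def b2 : ℕ → ℚ
  | 0 => 0
  | 1 => 0
  | 2 => 1 / 4
  | 3 => 1 / 8
  | 4 => 1 / 16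
  | 5 => 1 / 32
  | 6 => 0
  | 7 => 1 / 128
  | 8 => 2 / 256
  | 9 => 2 / 512
  | 10 => 2 / 1024
  | d + 11 => ((d : ℚ) + 11) / 3 * (2⁻¹) ^ (d + 11)

theorem b2_nonneg (d : ℕ) : 0 ≤ b2 d := by
  unfold b2
  split <;> positivity

theorem b2_sum (N : ℕ) : ∑ d ∈ range (N + 11), b2 d = 251 / 512 + (1 / 3) * (12 / 1024 - ((N : ℚ) + 12) * (2⁻¹) ^ (N + 10)) := by
  induction N with
  | zero =>
    simp only [Finset.sum_range_succ, Finset.sum_range_zero, zero_add, b2]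
    norm_num
  | succ N ih =>
    rw [show N + 1 + 11 = (N + 11) + 1 by ring, Finset.sum_range_succ, ih]
    simp only [b2]
    push_cast
    ring

theorem b2_sum_lt (N : ℕ) : ∑ d ∈ range N, b2 d < 1 / 2 := by
  have h1 : ∑ d ∈ range N, b2 d ≤ ∑ d ∈ range (N + 11), b2 d :=
    Finset.sum_le_sum_of_subset_of_nonneg (by intro x hx; rw [mem_range] at hx ⊢; omega) fun d _ _ => b2_nonneg d
  rw [b2_sum] at h1
  have h2 : (0 : ℚ) ≤ ((N : ℚ) + 12) * (2⁻¹) ^ (N + 10) := by positivity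
  linarith

theorem card_fib_six {S : Finset ℕ} (hS : ∀ r ∈ S, r.Prime ∧ r ≠ 2) : (fib 2 S 6).card = 0 := by
  rw [Finset.card_eq_zero, fib, Finset.filter_eq_empty_iff]
  intro r hr h
  have h1 : r ∣ 2 ^ 6 - 1 := by
    rw [dvd_pow_sub_one_iff (by omega), h]
  have h2 : r ∣ 9 * 7 := by simpa using h1
  have hp := (hS r hr).1
  rcases hp.dvd_mul.1 h2 with h3 | h3
  · have h4 : r ∣ 3 := hp.dvd_of_dvd_pow (n := 2) (by simpa using h3)
    have h5 := (Nat.prime_dvd_prime_iff_eq hp Nat.prime_three).1 h4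
    subst h5
    have h6 : od 2 3 ∣ 2 := by
      rw [← dvd_pow_sub_one_iff (by omega)]
      norm_num
    rw [h] at h6
    omega
  · have h5 := (Nat.prime_dvd_prime_iff_eq hp (by norm_num)).1 h3
    subst h5
    have h6 : od 2 7 ∣ 3 := by
      rw [← dvd_pow_sub_one_iff (by omega)]
      norm_num
    rw [h] at h6
    omega

theorem term_two {S : Finset ℕ} (hS : ∀ r ∈ S, r.Prime ∧ r ≠ 2) (d : ℕ) :
    ((fib 2 S d).card : ℚ) * ((2 : ℚ)⁻¹) ^ d ≤ b2 d := by
  have key : ∀ n k e : ℕ, n ≤ k → (n : ℚ) * (2⁻¹) ^ e ≤ k * (2⁻¹) ^ e := by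
    intro n k e h
    have : (n : ℚ) ≤ k := by exact_mod_cast h
    exact mul_le_mul_of_nonneg_right this (by positivity)
  match d with
  | 0 => rw [card_fib_zero Nat.prime_two hS]; simp [b2]
  | 1 =>
    have h := fib_le' Nat.prime_two hS rfl (d := 1) rfl
    have h1 := le_of_pow_le (k := 0) (by norm_num) h (by norm_num)
    exact le_trans (key _ _ 1 h1) (by norm_num [b2])
  | 2 =>
    have h := fib_le Nat.prime_two hS (d := 2) (by norm_num)
    have h1 := le_of_pow_le (k := 1) (by norm_num) h (by norm_num)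
    exact le_trans (key _ _ 2 h1) (by norm_num [b2])
  | 3 =>
    have h := fib_le' Nat.prime_two hS rfl (d := 3) rfl
    have h1 := le_of_pow_le (k := 1) (by norm_num) h (by norm_num)
    exact le_trans (key _ _ 3 h1) (by norm_num [b2])
  | 4 =>
    have h := fib_le Nat.prime_two hS (d := 4) (by norm_num)
    have h1 := le_of_pow_le (k := 1) (by norm_num) h (by norm_num)
    exact le_trans (key _ _ 4 h1) (by norm_num [b2])
  | 5 =>
    have h := fib_le' Nat.prime_two hS rfl (d := 5) rfl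
    have h1 := le_of_pow_le (k := 1) (by norm_num) h (by norm_num)
    exact le_trans (key _ _ 5 h1) (by norm_num [b2])
  | 6 => rw [card_fib_six hS]; simp [b2]
  | 7 =>
    have h := fib_le' Nat.prime_two hS rfl (d := 7) rfl
    have h1 := le_of_pow_le (k := 1) (by norm_num) h (by norm_num)
    exact le_trans (key _ _ 7 h1) (by norm_num [b2])
  | 8 =>
    have h := fib_le Nat.prime_two hS (d := 8) (by norm_num)
    have h1 := le_of_pow_le (k := 2) (by norm_num) h (by norm_num)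
    exact le_trans (key _ _ 8 h1) (by norm_num [b2])
  | 9 =>
    have h := fib_le' Nat.prime_two hS rfl (d := 9) rfl
    have h1 := le_of_pow_le (k := 2) (by norm_num) h (by norm_num)
    exact le_trans (key _ _ 9 h1) (by norm_num [b2])
  | 10 =>
    have h := fib_le Nat.prime_two hS (d := 10) (by norm_num)
    have h1 := le_of_pow_le (k := 2) (by norm_num) h (by norm_num)
    exact le_trans (key _ _ 10 h1) (by norm_num [b2])
  | d + 11 =>
    have h := fib_le Nat.prime_two hS (d := d + 11) (by omega)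
    have h1 : (2 ^ 3) ^ (fib 2 S (d + 11)).card ≤ (d + 11 + 1) ^ (fib 2 S (d + 11)).card :=
      Nat.pow_le_pow_left (by omega) _
    have h2 : 2 ^ (3 * (fib 2 S (d + 11)).card) < 2 ^ (d + 11) := by
      rw [pow_mul]
      have : 0 < 2 ^ (d + 11) := by positivity
      omega
    have h3 := (Nat.pow_lt_pow_iff_right (by norm_num)).1 h2
    have h4 : (3 : ℚ) * (fib 2 S (d + 11)).card ≤ (d : ℚ) + 11 := by exact_mod_cast h3.le
    simp only [b2]
    exact mul_le_mul_of_nonneg_right (by linarith) (by positivity)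

theorem sum_lt_two {S : Finset ℕ} (hS : ∀ r ∈ S, r.Prime ∧ r ≠ 2) : ∑ r ∈ S, ((2 : ℚ)⁻¹) ^ od 2 r < 1 / 2 := by
  obtain ⟨N, hN⟩ : ∃ N, ∀ r ∈ S, od 2 r < N :=
    ⟨S.sup (od 2) + 1, fun r hr => Nat.lt_succ_of_le (Finset.le_sup (f := od 2) hr)⟩
  have h1 := sum_eq 2 S N hN
  rw [Nat.cast_ofNat] at h1
  rw [h1]
  exact lt_of_le_of_lt (Finset.sum_le_sum fun d _ => term_two hS d) (b2_sum_lt N)

/-! ### odd primes -/

theorem cube_le (l : ℕ) (hl : 3 ≤ l) : l ^ 3 ≤ 3 ^ l := by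
  induction l, hl using Nat.le_induction with
  | base => norm_num
  | succ n hn ih =>
    rw [pow_succ 3 n]
    have h : (n + 1) ^ 3 ≤ 3 * n ^ 3 := by nlinarith [mul_pos (show 0 < n by omega) (show 0 < n by omega)]
    omega

theorem three_mul_lt {l : ℕ} (hl : l.Prime) (h3 : 3 ≤ l) {S : Finset ℕ} (hS : ∀ r ∈ S, r.Prime ∧ r ≠ l) {d : ℕ}
    (hd : 2 ≤ d) : 3 * (fib l S d).card < l * d := by
  have h := fib_le hl hS (d := d) (by omega)
  have h1 : 3 ^ (fib l S d).card ≤ (d + 1) ^ (fib l S d).card := Nat.pow_le_pow_left (by omega) _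
  have h2 : 3 ^ (fib l S d).card < l ^ d := by
    have : 0 < l ^ d := by positivity
    omega
  have h4 : 3 ^ (3 * (fib l S d).card) < 3 ^ (l * d) := by
    calc 3 ^ (3 * (fib l S d).card) = (3 ^ (fib l S d).card) ^ 3 := by rw [mul_comm, pow_mul]
      _ < (l ^ d) ^ 3 := Nat.pow_lt_pow_left h2 (by norm_num)
      _ = (l ^ 3) ^ d := by rw [← pow_mul, ← pow_mul, mul_comm]
      _ ≤ (3 ^ l) ^ d := Nat.pow_le_pow_left (cube_le l h3) d
      _ = 3 ^ (l * d) := by rw [pow_mul]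
  exact (Nat.pow_lt_pow_iff_right (by norm_num)).1 h4

/-- the bounds for `l = 3` -/
def b3 : ℕ → ℚ
  | 0 => 0
  | 1 => 1 / 3
  | 2 => 1 / 9
  | d + 3 => ((d : ℚ) + 3) * (3⁻¹) ^ (d + 3)

theorem b3_nonneg (d : ℕ) : 0 ≤ b3 d := by
  unfold b3
  split <;> positivity

theorem b3_sum (N : ℕ) : ∑ d ∈ range (N + 3), b3 d = 4 / 9 + (7 / 36 - ((2 * N : ℚ) + 7) / 4 * (3⁻¹) ^ (N + 2)) := by
  induction N with
  | zero =>
    simp only [Finset.sum_range_succ, Finset.sum_range_zero, zero_add, b3]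
    norm_num
  | succ N ih =>
    rw [show N + 1 + 3 = (N + 3) + 1 by ring, Finset.sum_range_succ, ih]
    simp only [b3]
    push_cast
    ring

theorem b3_sum_lt (N : ℕ) : ∑ d ∈ range N, b3 d < 2 / 3 := by
  have h1 : ∑ d ∈ range N, b3 d ≤ ∑ d ∈ range (N + 3), b3 d :=
    Finset.sum_le_sum_of_subset_of_nonneg (by intro x hx; rw [mem_range] at hx ⊢; omega) fun d _ _ => b3_nonneg d
  rw [b3_sum] at h1
  have h2 : (0 : ℚ) ≤ ((2 * N : ℚ) + 7) / 4 * (3⁻¹) ^ (N + 2) := by positivity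
  linarith

theorem term_three {S : Finset ℕ} (hS : ∀ r ∈ S, r.Prime ∧ r ≠ 3) (d : ℕ) :
    ((fib 3 S d).card : ℚ) * ((3 : ℚ)⁻¹) ^ d ≤ b3 d := by
  have key : ∀ n k e : ℕ, n ≤ k → (n : ℚ) * (3⁻¹) ^ e ≤ k * (3⁻¹) ^ e := by
    intro n k e h
    have : (n : ℚ) ≤ k := by exact_mod_cast h
    exact mul_le_mul_of_nonneg_right this (by positivity)
  match d with
  | 0 => rw [card_fib_zero Nat.prime_three hS]; simp [b3]
  | 1 =>
    have h := fib_le Nat.prime_three hS (d := 1) (by norm_num)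
    have h1 := le_of_pow_le (k := 1) (by norm_num) h (by norm_num)
    exact le_trans (key _ _ 1 h1) (by norm_num [b3])
  | 2 =>
    have h := fib_le Nat.prime_three hS (d := 2) (by norm_num)
    have h1 := le_of_pow_le (k := 1) (by norm_num) h (by norm_num)
    exact le_trans (key _ _ 2 h1) (by norm_num [b3])
  | d + 3 =>
    have h3 := three_mul_lt Nat.prime_three le_rfl hS (d := d + 3) (by omega)
    have h4 : ((fib 3 S (d + 3)).card : ℚ) ≤ (d : ℚ) + 3 := by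
      have : (fib 3 S (d + 3)).card ≤ d + 3 := by omega
      exact_mod_cast this
    simp only [b3]
    exact mul_le_mul_of_nonneg_right h4 (by positivity)

/-- the bounds for `l ≥ 5`, `d ≥ 2` -/
def b5 : ℕ → ℚ
  | 0 => 0
  | 1 => 0
  | d + 2 => ((d : ℚ) + 2) / 3 * (5⁻¹) ^ (d + 1)

theorem b5_nonneg (d : ℕ) : 0 ≤ b5 d := by
  unfold b5
  split <;> positivity

theorem b5_sum (N : ℕ) : ∑ d ∈ range (N + 2), b5 d = (1 / 3) * (9 / 16 - ((4 * N : ℚ) + 9) / 16 * (5⁻¹) ^ N) := by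
  induction N with
  | zero =>
    simp only [Finset.sum_range_succ, Finset.sum_range_zero, zero_add, b5]
    norm_num
  | succ N ih =>
    rw [show N + 1 + 2 = (N + 2) + 1 by ring, Finset.sum_range_succ, ih]
    simp only [b5]
    push_cast
    ring

theorem b5_sum_le (N : ℕ) : ∑ d ∈ range N, b5 d ≤ 3 / 16 := by
  have h1 : ∑ d ∈ range N, b5 d ≤ ∑ d ∈ range (N + 2), b5 d :=
    Finset.sum_le_sum_of_subset_of_nonneg (by intro x hx; rw [mem_range] at hx ⊢; omega) fun d _ _ => b5_nonneg d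
  rw [b5_sum] at h1
  have h2 : (0 : ℚ) ≤ ((4 * N : ℚ) + 9) / 16 * (5⁻¹) ^ N := by positivity
  linarith

theorem card_fib_one {l : ℕ} (hl : l.Prime) {S : Finset ℕ} (hS : ∀ r ∈ S, r.Prime ∧ r ≠ l) (h3 : 3 ≤ l) :
    2 * (fib l S 1).card + 1 ≤ l := by
  by_cases h0 : (fib l S 1).card = 0
  · omega
  have h2 : 2 * 3 ^ ((fib l S 1).card - 1) ≤ l - 1 := by
    have hd : ∀ r ∈ fib l S 1, r ∣ l - 1 := by
      intro r hr
      have := (dvd_pow_sub_one_iff (l := l) (r := r) (d := 1) (by omega)).2 (by rw [(mem_filter.1 hr).2])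
      simpa using this
    have hp : ∀ r ∈ fib l S 1, r.Prime := fun r hr => (hS r (mem_filter.1 hr).1).1
    have h1 : ∏ r ∈ fib l S 1, r ∣ l - 1 := Finset.prod_primes_dvd _ (fun r hr => (hp r hr).prime) hd
    refine le_trans ?_ (Nat.le_of_dvd (by omega) h1)
    by_cases h2 : 2 ∈ fib l S 1
    · rw [← Finset.mul_prod_erase _ _ h2]
      refine Nat.mul_le_mul_left _ ?_
      rw [← Finset.card_erase_of_mem h2, ← Finset.prod_const]
      refine Finset.prod_le_prod' fun r hr => ?_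
      have h4 := (hp r (Finset.mem_of_mem_erase hr)).two_le
      have h5 := Finset.ne_of_mem_erase hr
      omega
    · calc 2 * 3 ^ ((fib l S 1).card - 1) ≤ 3 * 3 ^ ((fib l S 1).card - 1) := Nat.mul_le_mul_right _ (by norm_num)
        _ = 3 ^ (fib l S 1).card := by rw [← pow_succ']; congr 1; omega
        _ = ∏ _r ∈ fib l S 1, 3 := by rw [Finset.prod_const]
        _ ≤ ∏ r ∈ fib l S 1, r := by
          refine Finset.prod_le_prod' fun r hr => ?_
          have h4 := (hp r hr).two_le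
          have h5 : r ≠ 2 := fun h => h2 (h ▸ hr)
          omega
  have h5 : ∀ n : ℕ, n + 1 ≤ 3 ^ n := by
    intro n
    exact Nat.lt_pow_self (by norm_num)
  have := h5 ((fib l S 1).card - 1)
  omega

theorem sum_lt_odd {l : ℕ} (hl : l.Prime) (h3 : 3 ≤ l) {S : Finset ℕ} (hS : ∀ r ∈ S, r.Prime ∧ r ≠ l) :
    ∑ r ∈ S, ((l : ℚ)⁻¹) ^ od l r + (l : ℚ)⁻¹ < 1 := by
  obtain ⟨N, hN⟩ : ∃ N, ∀ r ∈ S, od l r < N :=
    ⟨S.sup (od l) + 1, fun r hr => Nat.lt_succ_of_le (Finset.le_sup (f := od l) hr)⟩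
  have h1 := sum_eq l S (N + 2) fun r hr => lt_of_lt_of_le (hN r hr) (by omega)
  rw [h1]
  by_cases hl3 : l = 3
  · subst hl3
    have := lt_of_le_of_lt (Finset.sum_le_sum fun d _ => term_three hS d) (b3_sum_lt (N + 2))
    push_cast at this ⊢
    linarith
  have h5 : 5 ≤ l := by
    rcases hl.eq_two_or_odd with h | h <;> omega
  have h5' : (5 : ℚ) ≤ l := by exact_mod_cast h5
  have h0 : (0 : ℚ) < l := by linarith
  have hinv : (l : ℚ)⁻¹ ≤ 5⁻¹ := inv_anti₀ (by norm_num) h5'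
  have hone : ((fib l S 1).card : ℚ) * (l : ℚ)⁻¹ + (l : ℚ)⁻¹ ≤ 3 / 5 := by
    have h6 := card_fib_one hl hS h3
    have h7 : 2 * ((fib l S 1).card : ℚ) + 1 ≤ l := by exact_mod_cast h6
    have h8 : ((fib l S 1).card : ℚ) ≤ (l - 1) / 2 := by linarith
    have h9 : ((fib l S 1).card : ℚ) * (l : ℚ)⁻¹ ≤ (l - 1) / 2 * (l : ℚ)⁻¹ :=
      mul_le_mul_of_nonneg_right h8 (by positivity)
    have h10 : ((l : ℚ) - 1) / 2 * (l : ℚ)⁻¹ = 1 / 2 - (l : ℚ)⁻¹ / 2 := by
      field_simp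
    rw [h10] at h9
    linarith
  have hterm : ∀ d ∈ range N, ((fib l S (d + 2)).card : ℚ) * ((l : ℚ)⁻¹) ^ (d + 2) ≤ b5 (d + 2) := by
    intro d _
    have h6 := three_mul_lt hl h3 hS (d := d + 2) (by omega)
    have h7 : 3 * ((fib l S (d + 2)).card : ℚ) ≤ l * ((d : ℚ) + 2) := by exact_mod_cast h6.le
    have h8 : ((fib l S (d + 2)).card : ℚ) ≤ l * (((d : ℚ) + 2) / 3) := by linarith
    simp only [b5]
    calc ((fib l S (d + 2)).card : ℚ) * ((l : ℚ)⁻¹) ^ (d + 2)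
        ≤ (l * (((d : ℚ) + 2) / 3)) * ((l : ℚ)⁻¹) ^ (d + 2) := mul_le_mul_of_nonneg_right h8 (by positivity)
      _ = (((d : ℚ) + 2) / 3) * ((l : ℚ)⁻¹) ^ (d + 1) := by
        rw [pow_succ _ (d + 1)]
        field_simp
      _ ≤ (((d : ℚ) + 2) / 3) * (5⁻¹) ^ (d + 1) := by
        refine mul_le_mul_of_nonneg_left ?_ (by positivity)
        exact pow_le_pow_left₀ (by positivity) hinv _
  have h2 : ∑ d ∈ range (N + 2), ((fib l S d).card : ℚ) * ((l : ℚ)⁻¹) ^ d =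
      ((fib l S 1).card : ℚ) * (l : ℚ)⁻¹ + ∑ d ∈ range N, ((fib l S (d + 2)).card : ℚ) * ((l : ℚ)⁻¹) ^ (d + 2) := by
    rw [Finset.sum_range_succ', Finset.sum_range_succ', card_fib_zero hl hS]
    simp
    ring
  have h4 : ∑ d ∈ range N, b5 (d + 2) ≤ 3 / 16 := by
    have := b5_sum_le (N + 2)
    rw [Finset.sum_range_succ', Finset.sum_range_succ'] at this
    simpa [b5] using this
  have h6 := Finset.sum_le_sum hterm
  rw [h2]
  linarith

/-- `∑_{r ∈ S} l ^ (- ord_r(l)) + 1 / l < 1` for each prime `l` and each finite set `S` of primes different from `l` -/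
theorem sum_lt {l : ℕ} (hl : l.Prime) {S : Finset ℕ} (hS : ∀ r ∈ S, r.Prime ∧ r ≠ l) :
    ∑ r ∈ S, ((l : ℚ)⁻¹) ^ od l r + (l : ℚ)⁻¹ < 1 := by
  rcases Nat.lt_or_ge l 3 with h | h
  · have h2 : l = 2 := by have := hl.two_le; omega
    subst h2
    have := sum_lt_two hS
    push_cast
    linarith
  · exact sum_lt_odd hl h hS

end Cfsg.Agent.H393.RC
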