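import Cfsg.Agent.LieClassical.OrthTrans

/-!
# S3510, row F even, box E7, piece Z2 (helper393)

`no_six` : an isometry of order 3 without fixed vectors on a nondegenerate 6-space over `F_2` excludes plus type.
-/

set_option autoImplicit false
open Cfsg

namespace Cfsg.Agent.H393.RC

open QuadraticMap
open Cfsg.Agent.LieClassical.OrthCore Cfsg.Agent.LieClassical.OrthTrans

variable {F V : Type*} [Field F] [AddCommGroup V] [Module F V] {Q : QuadraticForm F V}

/-- a totally singular subspace of half the dimension is its own orthogonal space -/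
theorem mem_of_perp {D : Submodule F V} [FiniteDimensional F D] (hD : Nondeg (Q.comp D.subtype)) {U : Submodule F V}
    (hUD : U ≤ D) (hU : ∀ v ∈ U, Q v = 0) (hd : Module.finrank F D ≤ 2 * Module.finrank F U) {z : V} (hz : z ∈ D)
    (hzU : ∀ v ∈ U, polar Q v z = 0) : z ∈ U := by
  have hpol : ∀ x y : D, polar (Q.comp D.subtype) x y = polar Q (x : V) (y : V) := fun x y => by
    simp only [polar, QuadraticMap.comp_apply, Submodule.subtype_apply, Submodule.coe_add]
  have hB : (polarBilin (Q.comp D.subtype)).Nondegenerate := by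
    constructor
    · intro x hx
      exact hD x hx
    · intro x hx
      exact hD x fun y => by rw [polar_comm]; exact hx y
  have hrefl : (polarBilin (Q.comp D.subtype)).IsRefl := by
    intro x y h
    change polar (Q.comp D.subtype) y x = 0
    rw [polar_comm]
    exact h
  let U' : Submodule F D := U.comap D.subtype
  have hU' : Module.finrank F U' = Module.finrank F U :=
    (Submodule.comapSubtypeEquivOfLe hUD).finrank_eq
  have h1 := LinearMap.BilinForm.finrank_orthogonal hB U'
  have h2 : U' ≤ LinearMap.BilinForm.orthogonal (polarBilin (Q.comp D.subtype)) U' := by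
    intro x hx
    rw [LinearMap.BilinForm.mem_orthogonal_iff]
    intro y hy
    change polar (Q.comp D.subtype) y x = 0
    rw [hpol]
    have hx' : (x : V) ∈ U := hx
    have hy' : (y : V) ∈ U := hy
    rw [polar, hU _ (U.add_mem hy' hx'), hU _ hx', hU _ hy']
    simp
  have h3 : U' = LinearMap.BilinForm.orthogonal (polarBilin (Q.comp D.subtype)) U' :=
    Submodule.eq_of_le_of_finrank_le h2 (by rw [h1, hU']; omega)
  have h4 : (⟨z, hz⟩ : D) ∈ LinearMap.BilinForm.orthogonal (polarBilin (Q.comp D.subtype)) U' := by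
    rw [LinearMap.BilinForm.mem_orthogonal_iff]
    intro y hy
    change polar (Q.comp D.subtype) y _ = 0
    rw [hpol]
    exact hzU _ hy
  rw [← h3] at h4
  exact h4

/-- an alternating form on a 3-dimensional space has a radical -/
theorem exists_radical {U : Submodule F V} (hU3 : Module.finrank F U = 3) (f : V → V → F)
    (hadd : ∀ x ∈ U, ∀ y ∈ U, ∀ z ∈ U, f (x + y) z = f x z + f y z) (hsmul : ∀ (c : F), ∀ x ∈ U, ∀ z ∈ U, f (c • x) z = c * f x z)
    (halt : ∀ x ∈ U, f x x = 0) (hanti : ∀ x ∈ U, ∀ y ∈ U, f x y = - f y x) :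
    ∃ x ∈ U, x ≠ 0 ∧ ∀ y ∈ U, f x y = 0 := by
  have hfin : FiniteDimensional F U := Module.finite_of_finrank_pos (by omega)
  let b := Module.finBasisOfFinrankEq F U hU3
  obtain ⟨e1, he1⟩ : ∃ e : U, e = b 0 := ⟨_, rfl⟩
  obtain ⟨e2, he2⟩ : ∃ e : U, e = b 1 := ⟨_, rfl⟩
  obtain ⟨e3, he3⟩ : ∃ e : U, e = b 2 := ⟨_, rfl⟩
  have hexp : ∀ y : V, y ∈ U → ∃ a1 a2 a3 : F, y = a1 • (e1 : V) + a2 • (e2 : V) + a3 • (e3 : V) := by
    intro y hy
    refine ⟨b.repr ⟨y, hy⟩ 0, b.repr ⟨y, hy⟩ 1, b.repr ⟨y, hy⟩ 2, ?_⟩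
    have h1 := congrArg Subtype.val (b.sum_repr ⟨y, hy⟩)
    rw [Fin.sum_univ_three] at h1
    rw [he1, he2, he3]
    exact h1.symm
  have hind : ∀ a1 a2 a3 : F, a1 • (e1 : V) + a2 • (e2 : V) + a3 • (e3 : V) = 0 → a1 = 0 ∧ a2 = 0 ∧ a3 = 0 := by
    intro a1 a2 a3 h
    have h1 : a1 • e1 + a2 • e2 + a3 • e3 = 0 := Subtype.ext h
    have h2 := Fintype.linearIndependent_iff.1 b.linearIndependent ![a1, a2, a3] (by
      rw [Fin.sum_univ_three, ← he1, ← he2, ← he3]
      exact h1)
    exact ⟨h2 0, h2 1, h2 2⟩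
  have m1 := e1.2
  have m2 := e2.2
  have m3 := e3.2
  have hf0 : ∀ x ∈ U, ∀ a1 a2 a3 : F, f (a1 • (e1 : V) + a2 • (e2 : V) + a3 • (e3 : V)) x =
      a1 * f e1 x + a2 * f e2 x + a3 * f e3 x := by
    intro x hx a1 a2 a3
    rw [hadd _ (U.add_mem (U.smul_mem _ m1) (U.smul_mem _ m2)) _ (U.smul_mem _ m3) _ hx,
      hadd _ (U.smul_mem _ m1) _ (U.smul_mem _ m2) _ hx, hsmul _ _ m1 _ hx, hsmul _ _ m2 _ hx, hsmul _ _ m3 _ hx]
  obtain ⟨p, hp⟩ : ∃ p, p = f e2 e3 := ⟨_, rfl⟩
  obtain ⟨q, hq⟩ : ∃ q, q = f e1 e3 := ⟨_, rfl⟩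
  obtain ⟨s, hs⟩ : ∃ s, s = f e1 e2 := ⟨_, rfl⟩
  have hp' : f e3 e2 = -p := by rw [hanti _ m3 _ m2, hp]
  have hq' : f e3 e1 = -q := by rw [hanti _ m3 _ m1, hq]
  have hs' : f e2 e1 = -s := by rw [hanti _ m2 _ m1, hs]
  -- the vector `x0`
  have hx0 : ∀ y ∈ U, f (p • (e1 : V) + (-q) • (e2 : V) + s • (e3 : V)) y = 0 := by
    intro y hy
    have hmem : p • (e1 : V) + (-q) • (e2 : V) + s • (e3 : V) ∈ U :=
      U.add_mem (U.add_mem (U.smul_mem _ m1) (U.smul_mem _ m2)) (U.smul_mem _ m3)
    rw [hanti _ hmem _ hy]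
    obtain ⟨a1, a2, a3, rfl⟩ := hexp y hy
    rw [hf0 _ hmem, hanti _ m1 _ hmem, hanti _ m2 _ hmem, hanti _ m3 _ hmem, hf0 _ m1, hf0 _ m2, hf0 _ m3,
      halt _ m1, halt _ m2, halt _ m3, hp', hq', hs', ← hp, ← hq, ← hs]
    ring
  by_cases h0 : p • (e1 : V) + (-q) • (e2 : V) + s • (e3 : V) = 0
  · obtain ⟨hp0, hq0, hs0⟩ := hind _ _ _ h0
    have hq0' : q = 0 := neg_eq_zero.1 hq0
    refine ⟨e1, m1, ?_, ?_⟩
    · intro h1
      have := hind 1 0 0 (by rw [h1]; simp)
      exact one_ne_zero this.1
    · intro y hy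
      rw [hanti _ m1 _ hy]
      obtain ⟨a1, a2, a3, rfl⟩ := hexp y hy
      rw [hf0 _ m1, halt _ m1, hs', hq', hs0, hq0']
      simp
  · exact ⟨_, U.add_mem (U.add_mem (U.smul_mem _ m1) (U.smul_mem _ m2)) (U.smul_mem _ m3), h0, hx0⟩

/-- Z2: an element of order 3 does not act fixed-point-freely on a six-dimensional space of plus type -/
theorem no_six (hF : Nat.card F = 2) {D : Submodule F V} (hD : Nondeg (Q.comp D.subtype))
    (h6 : Module.finrank F D = 6) {T : V ≃ₗ[F] V} (hT : T ∈ O Q) (hTD : ∀ v ∈ D, T v ∈ D)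
    (hf : ∀ v ∈ D, T v = v → v = 0) (hT3 : T ^ 3 = 1) {U : Submodule F V} (hUD : U ≤ D)
    (hU : ∀ v ∈ U, Q v = 0) (hU3 : Module.finrank F U = 3) : False := by
  have hfinF : Finite F := Nat.finite_of_card_ne_zero (by omega)
  have hFc : ∀ c : F, c = 0 ∨ c = 1 := by
    intro c
    have h1 : c ^ 2 = c := by
      have := Fintype.ofFinite F
      have h0 := FiniteField.pow_card c
      rwa [← Nat.card_eq_fintype_card, hF] at h0
    have h2 : c * (c - 1) = 0 := by linear_combination h1
    rcases mul_eq_zero.1 h2 with h | h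
    · exact Or.inl h
    · exact Or.inr (sub_eq_zero.1 h)
  have hfinD : FiniteDimensional F D := Module.finite_of_finrank_pos (by omega)
  have hT3' : ∀ v, T (T (T v)) = v := by
    intro v
    have h1 : (T ^ 3) v = v := by rw [hT3]; rfl
    rw [pow_succ, pow_two] at h1
    exact h1
  have hmin : ∀ v ∈ D, T (T v) = -v - T v := by
    intro v hv
    have h1 : T (T (T v) + T v + v) = T (T v) + T v + v := by
      rw [map_add, map_add, hT3']
      abel
    have h2 := hf _ (D.add_mem (D.add_mem (hTD _ (hTD _ hv)) (hTD _ hv)) hv) h1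
    have h3 : T (T v) = T (T v) + T v + v - T v - v := by abel
    rw [h3, h2]
    abel
  have hxx : ∀ x ∈ U, polar Q x (T x) = 0 := by
    intro x hx
    have hxD := hUD hx
    have h1 : Q (T (T x)) = 0 := by rw [mem_O.1 hT, mem_O.1 hT]; exact hU x hx
    rw [hmin x hxD, show -x - T x = -(x + T x) by abel, QuadraticMap.map_neg, Q_add, mem_O.1 hT, hU x hx] at h1
    simpa using h1
  have hanti : ∀ x ∈ U, ∀ y ∈ U, polar Q x (T y) = -polar Q y (T x) := by
    intro x hx y hy
    have h1 := hxx _ (U.add_mem hx hy)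
    rw [map_add, polar_add_left, polar_add_right, polar_add_right, hxx x hx, hxx y hy] at h1
    linear_combination h1
  obtain ⟨x, hxU, hx0, hrad⟩ := exists_radical (V := V) hU3 (fun x y => polar Q x (T y))
    (fun x _ y _ z _ => by rw [polar_add_left]) (fun c x _ z _ => by rw [polar_smul_left, smul_eq_mul])
    hxx hanti
  have hrad' : ∀ y ∈ U, polar Q x (T y) = 0 := hrad
  have hd : Module.finrank F D ≤ 2 * Module.finrank F U := by omega
  have hTx : T x ∈ U := by
    apply mem_of_perp hD hUD hU hd (hTD _ (hUD hxU))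
    intro y hy
    rw [hanti y hy x hxU, hrad' y hy, neg_zero]
  have h2F : (1 : F) + 1 = 0 := by
    rcases hFc (1 + 1) with h | h
    · exact h
    · exfalso
      have : (1 : F) = 0 := by linear_combination h
      exact one_ne_zero this
  -- `w` outside `⟨x, Tx⟩`
  have hne : Submodule.span F {x, T x} ≠ U := by
    intro h1
    have h2 : Module.finrank F (Submodule.span F ({x, T x} : Set V)) ≤ 2 := by
      classical
      have h3 := finrank_span_finset_le_card (R := F) ({x, T x} : Finset V)
      have h4 : (({x, T x} : Finset V) : Set V) = {x, T x} := by simp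
      rw [Set.finrank, h4] at h3
      exact h3.trans Finset.card_le_two
    rw [h1, hU3] at h2
    omega
  have hle : Submodule.span F {x, T x} ≤ U := by
    rw [Submodule.span_le]
    rintro z (rfl | rfl)
    · exact hxU
    · exact hTx
  obtain ⟨w, hwU, hw⟩ := SetLike.exists_of_lt (lt_of_le_of_ne hle hne)
  have hxS : x ∈ Submodule.span F {x, T x} := Submodule.subset_span (by simp)
  have hTxS : T x ∈ Submodule.span F {x, T x} := Submodule.subset_span (by simp)
  have hind : ∀ a b c : F, a • x + b • T x + c • w = 0 → a = 0 ∧ b = 0 ∧ c = 0 := by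
    intro a b c hc
    have c2 : c = 0 := by
      by_contra h
      apply hw
      have h1 : w = (-(c⁻¹ * a)) • x + (-(c⁻¹ * b)) • T x := by
        have h2 : w = c⁻¹ • (c • w) := by rw [smul_smul, inv_mul_cancel₀ h, one_smul]
        have h3 : c • w = -(a • x + b • T x) := by
          rw [eq_neg_iff_add_eq_zero, add_comm]
          exact hc
        rw [h2, h3]
        module
      rw [h1]
      exact Submodule.add_mem _ (Submodule.smul_mem _ _ hxS) (Submodule.smul_mem _ _ hTxS)
    rw [c2, zero_smul, add_zero] at hc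
    have c1 : b = 0 := by
      rcases hFc b with h | h
      · exact h
      · exfalso
        rw [h, one_smul] at hc
        rcases hFc a with h' | h'
        · rw [h', zero_smul, zero_add] at hc
          exact hx0 ((LinearEquiv.map_eq_zero_iff T).1 hc)
        · rw [h', one_smul] at hc
          apply hx0
          apply hf x (hUD hxU)
          have h3 : x + x = 0 := by
            have : (1 + 1 : F) • x = 0 := by rw [h2F, zero_smul]
            rwa [add_smul, one_smul] at this
          calc T x = x + T x - x := by abel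
            _ = x + x - x := by rw [hc, h3]
            _ = x := by abel
    rw [c1, zero_smul, add_zero] at hc
    exact ⟨(smul_eq_zero.1 hc).resolve_right hx0, c1, c2⟩
  have hspan : Submodule.span F {x, T x, w} = U := by
    have hli : LinearIndependent F ![x, T x, w] := by
      rw [Fintype.linearIndependent_iff]
      intro c hc
      rw [Fin.sum_univ_three] at hc
      simp only [Matrix.cons_val_zero, Matrix.cons_val_one, Matrix.cons_val] at hc
      obtain ⟨h1, h2, h3⟩ := hind _ _ _ hc
      intro i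
      fin_cases i
      · exact h1
      · exact h2
      · exact h3
    have hle3 : Submodule.span F {x, T x, w} ≤ U := by
      rw [Submodule.span_le]
      rintro z (rfl | rfl | rfl)
      · exact hxU
      · exact hTx
      · exact hwU
    have hfinU : FiniteDimensional F U := Module.finite_of_finrank_pos (by omega)
    apply Submodule.eq_of_le_of_finrank_le hle3
    have h1 := finrank_span_eq_card hli
    have h2 : Set.range ![x, T x, w] = {x, T x, w} := by
      simp only [Matrix.range_cons, Matrix.range_empty, Set.union_empty, Set.singleton_union]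
    rw [h2] at h1
    rw [hU3, h1]
    rfl
  have hTw : T w ∈ U := by
    apply mem_of_perp hD hUD hU hd (hTD _ (hUD hwU))
    intro y hy
    rw [← hspan] at hy
    obtain ⟨a, b, c, rfl⟩ := Submodule.mem_span_triple.1 hy
    have h1 : polar Q (T x) (T w) = 0 := by
      rw [polar_map hT, polar, hU _ (U.add_mem hxU hwU), hU _ hxU, hU _ hwU]
      simp
    rw [polar_add_left, polar_add_left, polar_smul_left, polar_smul_left, polar_smul_left, hrad' w hwU, h1, hxx w hwU]
    simp
  rw [← hspan] at hTw
  obtain ⟨a, b, c, habc⟩ := Submodule.mem_span_triple.1 hTw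
  have h1 := hmin w (hUD hwU)
  rw [← habc, map_add, map_add, map_smul, map_smul, map_smul, hmin x (hUD hxU), ← habc] at h1
  have h2 : (-b + a + c * a) • x + (a - b + b + c * b) • T x + (c * c + c + 1) • w = 0 := by
    have h3 : a • T x + b • (-x - T x) + c • (a • x + b • T x + c • w) - (-w - (a • x + b • T x + c • w)) = 0 := by
      rw [h1, sub_self]
    rw [← h3]
    module
  obtain ⟨-, -, h4⟩ := hind _ _ _ h2
  rcases hFc c with h | h
  · rw [h] at h4
    simp at h4
  · rw [h, mul_one, h2F, zero_add] at h4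
    exact one_ne_zero h4

end Cfsg.Agent.H393.RC
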