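import Cfsg.Agent.H393.RC.TriZZ

/-!
# S3510, triality, type iii: the box ZZ with the subspace `W` (helper393)
-/

set_option autoImplicit false

namespace Cfsg.Agent.H393.TZ

open Module QuadraticMap Cfsg.Agent.LieClassical.OrthCore Cfsg.Agent.LieClassical.OrthTrans
  Cfsg.Agent.LieClassical.OrthSimple Cfsg.Agent.LieClassical.QuadForms
  Cfsg.Agent.ClassicalGeometry.TrialityOct Cfsg.Agent.ClassicalGeometry.Triality
  Cfsg.Agent.H198.TriBase Cfsg.Agent.H198.TriAut
  Cfsg.Agent.H198.TriDia Cfsg.Agent.H198.TriTC Cfsg.Agent.H198.TwComp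

/-- orthogonal projection on a nondegenerate subspace -/
theorem exists_proj {F V : Type*} [Field F] [AddCommGroup V] [Module F V] [FiniteDimensional F V]
    {Q : QuadraticForm F V} {W : Submodule F V}
    (hW : ∀ v ∈ W, (∀ w ∈ W, polar Q v w = 0) → v = 0) (v : V) : ∃ w ∈ W, ∀ w' ∈ W, polar Q (v - w) w' = 0 := by
  let f : W →ₗ[F] Module.Dual F W := (W.subtype.dualMap).comp ((polarBilin Q).comp W.subtype)
  have hfa : ∀ x y : W, f x y = polar Q (x : V) (y : V) := fun _ _ => rfl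
  have hf : Function.Injective f := by
    rw [injective_iff_map_eq_zero]
    intro x hx
    apply Subtype.ext
    apply hW _ x.2
    intro w hw
    have := congrArg (fun g : Module.Dual F W => g ⟨w, hw⟩) hx
    exact this
  have hs : Function.Surjective f :=
    (LinearMap.injective_iff_surjective_of_finrank_eq_finrank (Subspace.dual_finrank_eq).symm).1 hf
  obtain ⟨w, hw⟩ := hs ((W.subtype.dualMap) (polarBilin Q v))
  refine ⟨w, w.2, fun w' hw' => ?_⟩
  have h1 := congrArg (fun g : Module.Dual F W => g ⟨w', hw'⟩) hw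
  have h2 : polar Q (w : V) w' = polar Q v w' := h1
  rw [polar_sub_left, h2, sub_self]

theorem zzW {F : Type*} [Field F] [Finite F] {s : F ≃+* F} (h3 : ∀ a, s (s (s a)) = a) (hne : s ≠ RingEquiv.refl F)
    {q0 : ℕ} (hq : Nat.card F = q0 ^ 3) {c : V8 F ≃ₗ[F] V8 F} (hcA : c ∈ AutD (fG s)) {l k : ℕ} (hl : l.Prime)
    (hl2 : l ≠ 2) (hn : orderOf c = l ^ k) (h1 : l ^ k ∣ Nat.card F ^ 2 - 1) (h2 : ¬ l ^ k ∣ q0 ^ 2 - 1)
    {W : Submodule F (V8 F)} {τ : F} (hcW : ∀ v ∈ W, c v ∈ W) (hτ : ∀ v ∈ W, c (c v) + v = τ • c v)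
    (hW : ∀ v ∈ W, (∀ w ∈ W, polar (plusForm 4 F) v w = 0) → v = 0)
    (hWp : ∀ v, (∀ w ∈ W, polar (plusForm 4 F) v w = 0) → c v = v) : False := by
  have hmem : ∀ v, c v - v ∈ W := by
    intro v
    obtain ⟨w, hw, hp⟩ := exists_proj hW v
    have e := hWp _ hp
    rw [map_sub] at e
    have e2 : c v - v = c w - w := by
      rw [sub_eq_sub_iff_add_eq_add]
      rw [sub_eq_sub_iff_add_eq_add] at e
      rw [e, add_comm]
    rw [e2]
    exact W.sub_mem (hcW w hw) hw
  have hodd : Odd (l ^ k) := (hl.odd_of_ne_two hl2).pow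
  have h3' : l ^ k ∣ Nat.card F - 1 ∨ l ^ k ∣ Nat.card F + 1 := by
    obtain ⟨N, hN⟩ : ∃ N, N = Nat.card F := ⟨_, rfl⟩
    rw [← hN] at h1 ⊢
    have hN1 : 1 ≤ N := by
      rw [hN]
      exact Nat.card_pos
    have e1 : N ^ 2 - 1 = (N + 1) * (N - 1) := by
      have := Nat.sq_sub_sq N 1
      rwa [one_pow] at this
    rw [e1] at h1
    by_cases hd : l ∣ N - 1
    · left
      have hcop : Nat.Coprime (l ^ k) (N + 1) := by
        apply Nat.Coprime.pow_left
        rw [hl.coprime_iff_not_dvd]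
        intro hd2
        have h5 : l ∣ (N + 1) - (N - 1) := Nat.dvd_sub hd2 hd
        have h6 : (N + 1) - (N - 1) = 2 := by omega
        rw [h6] at h5
        exact hl2 ((Nat.prime_dvd_prime_iff_eq hl Nat.prime_two).1 h5)
      exact hcop.dvd_of_dvd_mul_left h1
    · right
      have hcop : Nat.Coprime (l ^ k) (N - 1) := by
        apply Nat.Coprime.pow_left
        rw [hl.coprime_iff_not_dvd]
        exact hd
      exact hcop.dvd_of_dvd_mul_right h1
  exact ZZ h3 hne hq hcA hodd hn h3' h2 (fun v => hτ _ (hmem v))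

end Cfsg.Agent.H393.TZ
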