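import Cfsg.Agent.H393.RC.UULin
import Cfsg.Agent.H138.RC.BoxP

/-!
# S3510, row F even, box UU (helper393)

`box_UU_of` : the stub `box_UU` of `S3510_F_even_stubs`, from box F1 (hypothesis `hLR`, in the form of `box_A_of`).
-/

set_option autoImplicit false
set_option linter.unusedSimpArgs false
open Cfsg

namespace Cfsg.Agent.H393.UU

open QuadraticMap MulAction
open Cfsg.Agent.LieClassical.OrthCore Cfsg.Agent.LieClassical.OrthTrans
open Cfsg.Agent.LieClassical.OrthSimple Cfsg.Agent.ClassicalGeometry.OrthSemi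
open Cfsg.Agent.ClassicalGeometry.OrthAut1 Cfsg.Agent.H106.RC Cfsg.Agent.H93.RC

section lin

variable {F V : Type*} [Field F] [AddCommGroup V] [Module F V] {Q : QuadraticForm F V}

/-- a frame of a nondegenerate 4-space extending a totally singular plane -/
theorem exists_fr (D : Submodule F V) (hD4 : Module.finrank F D = 4) (hDn : Nondeg (Q.comp D.subtype)) {w v : V}
    (hw : w ∈ D) (hv : v ∈ D) (hw0 : Q w = 0) (hv0 : Q v = 0) (hwv : polar Q w v = 0) (hne : w ≠ 0)
    (hind : ∀ a : F, v ≠ a • w) : ∃ f g : V, f ∈ D ∧ g ∈ D ∧ Fr Q w v f g ∧ Submodule.span F {w, v, f, g} = D := by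
  have hpol : ∀ x y : D, polar (Q.comp D.subtype) x y = polar Q (x : V) (y : V) := fun x y => by
    simp only [polar, QuadraticMap.comp_apply, Submodule.subtype_apply, Submodule.coe_add]
  have hQ' : ∀ x : D, (Q.comp D.subtype) x = Q (x : V) := fun x => rfl
  obtain ⟨y, hy1, hy2⟩ := exists_sep (x := (⟨w, hw⟩ : D)) (z := (⟨v, hv⟩ : D)) hDn (by
    intro c hc
    have h1 : w = c • v := congrArg Subtype.val hc
    have hc0 : c ≠ 0 := by
      rintro rfl
      rw [zero_smul] at h1
      exact hne h1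
    exact hind c⁻¹ (by rw [h1, smul_smul, inv_mul_cancel₀ hc0, one_smul]))
  rw [hpol] at hy1 hy2
  change polar Q v (y : V) = 0 at hy1
  change polar Q w (y : V) = 1 at hy2
  have hvw : polar Q v w = 0 := by rw [polar_comm]; exact hwv
  have hyw : polar Q (y : V) w = 1 := by rw [polar_comm]; exact hy2
  obtain ⟨f1, hf1⟩ : ∃ f1 : D, f1 = y + (-Q (y : V)) • (⟨w, hw⟩ : D) := ⟨_, rfl⟩
  have hf1' : (f1 : V) = (y : V) + (-Q (y : V)) • w := by rw [hf1]; rfl
  have hyp1 : Hyp (Q.comp D.subtype) (⟨w, hw⟩ : D) f1 := by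
    refine ⟨hw0, ?_, ?_⟩
    · rw [hQ', hf1', Q_add, QuadraticMap.map_smul, hw0, polar_smul_right, hyw]
      simp
    · rw [hpol, hf1']
      show polar Q w _ = 1
      rw [polar_add_right, polar_smul_right, polar_self_of_sing hw0, hy2]
      simp
  have hvf1 : polar Q v (f1 : V) = 0 := by
    rw [hf1', polar_add_right, polar_smul_right, hy1, hvw]
    simp
  obtain ⟨g1, hyp2, hg1, hg2⟩ := exists_hyp_perp (w := (⟨v, hv⟩ : D)) hDn hyp1 hv0 (fun h => hind 0 (by
    rw [zero_smul]
    exact congrArg Subtype.val h)) (by rw [hpol]; exact hwv) (by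
      rw [hpol, polar_comm]
      exact hvf1)
  have hfr : Fr Q w v (f1 : V) (g1 : V) := by
    refine ⟨hw0, hv0, hyp1.right, hyp2.right, ?_, ?_, hwv, ?_, hvf1, ?_⟩
    · have := hyp1.pair
      rwa [hpol] at this
    · have := hyp2.pair
      rwa [hpol] at this
    · rwa [hpol] at hg1
    · rwa [hpol] at hg2
  refine ⟨f1, g1, f1.2, g1.2, hfr, ?_⟩
  have hfin : FiniteDimensional F D := Module.finite_of_finrank_pos (by omega)
  have hli : LinearIndependent F ![w, v, (f1 : V), (g1 : V)] := by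
    rw [Fintype.linearIndependent_iff]
    intro c hc
    rw [Fin.sum_univ_four] at hc
    simp only [Matrix.cons_val_zero, Matrix.cons_val_one, Matrix.cons_val] at hc
    have k1 := congrArg (polar Q w) hc
    have k2 := congrArg (polar Q v) hc
    have k3 := congrArg (polar Q (f1 : V)) hc
    have k4 := congrArg (polar Q (g1 : V)) hc
    simp only [polar_add_right, polar_smul_right, polar_zero_right, hfr.wf, hfr.vg, hfr.wv, hfr.wg, hfr.vf, hfr.fg,
      hfr.fw, hfr.gv, hfr.vw, hfr.gw, hfr.fv, hfr.gf, hfr.ww, hfr.vv, hfr.ff, hfr.gg, smul_eq_mul, mul_zero, mul_one,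
      add_zero, zero_add] at k1 k2 k3 k4
    intro i
    fin_cases i
    · exact k3
    · exact k4
    · exact k1
    · exact k2
  have hle : Submodule.span F {w, v, (f1 : V), (g1 : V)} ≤ D := by
    rw [Submodule.span_le]
    rintro z (rfl | rfl | rfl | rfl)
    · exact hw
    · exact hv
    · exact f1.2
    · exact g1.2
  apply Submodule.eq_of_le_of_finrank_le hle
  have h1 := finrank_span_eq_card hli
  have h2 : Set.range ![w, v, (f1 : V), (g1 : V)] = {w, v, (f1 : V), (g1 : V)} := by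
    simp only [Matrix.range_cons, Matrix.range_empty, Set.union_empty, Set.singleton_union]
  rw [h2] at h1
  rw [hD4, h1]
  rfl

namespace Fr

variable {w v f g : V}

/-- an isometry fixing `w`, `v` commutes with `a` -/
theorem comm_of_fix (h : Fr Q w v f g) {B : V ≃ₗ[F] V} (hB : B ∈ O Q) (hw : B w = w) (hv : B v = v) (x : V) :
    B (h.a x) = h.a (B x) := by
  rw [h.a_apply, h.a_apply, map_sub, map_add, map_smul, map_smul, hw, hv]
  have h1 : polar Q w (B x) = polar Q w x := by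
    nth_rewrite 1 [← hw]
    exact polar_map hB _ _
  have h2 : polar Q v (B x) = polar Q v x := by
    nth_rewrite 1 [← hv]
    exact polar_map hB _ _
  rw [h1, h2]

/-- an isometry of finite order preserving the 4-space and commuting with `a` there commutes with `a` -/
theorem comm_a (h : Fr Q w v f g) {T : V ≃ₗ[F] V} (hT : T ∈ O Q) {r : ℕ} (hr : T ^ r = 1) (hr0 : r ≠ 0)
    (hD : ∀ x ∈ Submodule.span F {w, v, f, g}, T x ∈ Submodule.span F {w, v, f, g})
    (hc : ∀ x ∈ Submodule.span F {w, v, f, g}, T (h.a x) = h.a (T x)) (x : V) : T (h.a x) = h.a (T x) := by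
  have hpow : ∀ n : ℕ, ∀ x ∈ Submodule.span F {w, v, f, g}, (T ^ n) x ∈ Submodule.span F {w, v, f, g} := by
    intro n
    induction n with
    | zero => intro x hx; exact hx
    | succ n ih =>
      intro x hx
      rw [pow_succ']
      exact hD _ (ih x hx)
  have hsurj : ∀ x ∈ Submodule.span F {w, v, f, g}, ∃ y ∈ Submodule.span F {w, v, f, g}, T y = x := by
    intro x hx
    obtain ⟨n, rfl⟩ := Nat.exists_eq_succ_of_ne_zero hr0
    refine ⟨(T ^ n) x, hpow n x hx, ?_⟩
    have h1 : (T * T ^ n) x = x := by rw [← pow_succ', hr]; rfl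
    exact h1
  obtain ⟨d, hd⟩ : ∃ d, d = polar Q f x • w + polar Q g x • v + polar Q w x • f + polar Q v x • g := ⟨_, rfl⟩
  have hdD : d ∈ Submodule.span F {w, v, f, g} := by
    rw [hd]
    refine Submodule.add_mem _ (Submodule.add_mem _ (Submodule.add_mem _ ?_ ?_) ?_) ?_
    all_goals exact Submodule.smul_mem _ _ (Submodule.subset_span (by simp))
  obtain ⟨e, he⟩ : ∃ e, e = x - d := ⟨_, rfl⟩
  have hx : x = d + e := by rw [he]; abel
  have hpe : ∀ y ∈ Submodule.span F {w, v, f, g}, polar Q y e = 0 := by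
    intro y hy
    induction hy using Submodule.span_induction with
    | mem y hy =>
      simp only [Set.mem_insert_iff, Set.mem_singleton_iff] at hy
      rw [he, hd]
      rcases hy with rfl | rfl | rfl | rfl <;>
      · simp only [polar_add_right, polar_sub_right, polar_smul_right, h.wf, h.vg, h.wv, h.wg, h.vf, h.fg,
          h.fw, h.gv, h.vw, h.gw, h.fv, h.gf, h.ww, h.vv, h.ff, h.gg, smul_eq_mul]
        ring
    | zero => simp
    | add y z _ _ hy hz => rw [polar_add_left, hy, hz, add_zero]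
    | smul c y _ hy => rw [polar_smul_left, hy, smul_zero]
  have hpTe : ∀ y ∈ Submodule.span F {w, v, f, g}, polar Q y (T e) = 0 := by
    intro y hy
    obtain ⟨y', hy', rfl⟩ := hsurj y hy
    rw [polar_map hT]
    exact hpe y' hy'
  have hwm : w ∈ Submodule.span F {w, v, f, g} := Submodule.subset_span (by simp)
  have hvm : v ∈ Submodule.span F {w, v, f, g} := Submodule.subset_span (by simp)
  have h1 : h.a e = e := by rw [h.a_apply, hpe w hwm, hpe v hvm]; simp
  have h2 : h.a (T e) = T e := by rw [h.a_apply, hpTe w hwm, hpTe v hvm]; simp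
  rw [hx, map_add, map_add, map_add, map_add, h1, h2, hc d hdD]

end Fr

/-- the powers of `a` -/
theorem Fr.a_pow {w v f g : V} (h : Fr Q w v f g) (n : ℕ) (x : V) :
    (h.a ^ n) x = x + (n : F) • (polar Q w x • v - polar Q v x • w) := by
  induction n with
  | zero => simp
  | succ n ih =>
    rw [pow_succ']
    show h.a ((h.a ^ n) x) = _
    rw [ih, h.a_apply]
    simp only [polar_add_right, polar_sub_right, polar_smul_right, h.wv, h.vw, h.ww, h.vv, smul_eq_mul]
    push_cast
    module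

/-- the semisimilitude `M` is the linear map `g` -/
def Rel (M : Gam Q) (g : V ≃ₗ[F] V) : Prop := ∀ v, M.1 v = g v

theorem Rel.mul {M N : Gam Q} {g k : V ≃ₗ[F] V} (h : Rel M g) (h' : Rel N k) : Rel (M * N) (g * k) := by
  intro v
  show M.1 (N.1 v) = g (k v)
  rw [h', h]

theorem Rel.inv {M : Gam Q} {g : V ≃ₗ[F] V} (h : Rel M g) : Rel M⁻¹ g⁻¹ := by
  intro v
  show M.1⁻¹ v = g⁻¹ v
  rw [Equiv.Perm.inv_eq_iff_eq, h]
  exact (g.apply_symm_apply v).symm

theorem Rel.pow {M : Gam Q} {g : V ≃ₗ[F] V} (h : Rel M g) (n : ℕ) : Rel (M ^ n) (g ^ n) := by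
  induction n with
  | zero => intro v; rfl
  | succ n ih => rw [pow_succ, pow_succ]; exact ih.mul h

theorem Rel.tg (t : ↥(E Q)) : Rel (tg Q t) (t : V ≃ₗ[F] V) := fun _ => rfl

theorem Rel.conjE_eq {M : Gam Q} {g : V ≃ₗ[F] V} (h : Rel M g) {t : ↥(E Q)}
    (hc : ∀ v, g ((t : V ≃ₗ[F] V) v) = (t : V ≃ₗ[F] V) (g v)) : conjE Q M t = t := by
  apply AutOrth.SemiSim.ext_E
  intro v
  obtain ⟨v, rfl⟩ := M.1.surjective v
  rw [coe_conjE, conjLin_apply', h, h]
  exact hc v

end lin

section main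

universe z

variable {F V G Ω : Type*} {ι : Type z} [Field F] [AddCommGroup V] [Module F V] {Q : QuadraticForm F V} [Group G]
  [MulAction G Ω] {N : Subgroup G} {ρ : ↥(E Q) →* G}

/-- replacing `x i₀` by a `p'`-element fixing `L` pointwise -/
theorem core {p : ℕ} (hLR : ∀ (κ : Type z) [Finite κ] {y : κ → G} {L : κ → Gam Q} {s : κ → ℕ},
      (∀ i, Lf ρ (y i) (L i)) → (∀ i, (s i).Prime) → (∀ i, s i ≠ p) → (∀ i, y i ^ s i = 1) → (∀ i, y i ≠ 1) →
      (∀ i j, y i * y j = y j * y i) → ∀ {u w : V} (hu : Q u = 0) (_ : Q w = 0) (huw : polar Q u w = 0),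
      u ≠ 0 → (∀ a : F, w ≠ a • u) →
      (∀ i, ∀ v ∈ Submodule.span F {u, w}, (L i).1 v ∈ Submodule.span F {u, w}) →
      (∀ ω : Ω, ρ (AutOrth.SemiSim.sg Q u w hu huw) • ω = ω ∨ ∃ i, y i • ω = ω) → False)
    [Finite ι] {x : ι → G} {M : ι → Gam Q} {r : ι → ℕ}
    (hl : ∀ i, Lf ρ (x i) (M i)) (hx : PF x r) (hcov : Cov Ω x) (i₀ : ι) (hi₀ : r i₀ = p)
    (L : Submodule F V) (hL : ∀ v ∈ L, Q v = 0) (hL2 : Module.finrank F L = 2)
    (hLi : ∀ i, i ≠ i₀ → ∀ v ∈ L, (M i).1 v ∈ L) {y : G} {K : Gam Q} {q : ℕ} (hq : q.Prime) (hqp : q ≠ p)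
    (hyK : Lf ρ y K) (hyq : y ^ q = 1) (hy1 : y ≠ 1) (hKL : ∀ v ∈ L, K.1 v = v)
    (hcom : ∀ j, j ≠ i₀ → y * x j = x j * y)
    (hy : y ∈ Subgroup.closure {z | ∃ c : G, (∀ j, j ≠ i₀ → c * x j = x j * c) ∧ z = c * x i₀ * c⁻¹}) : False := by
  classical
  have hcov' := hcov.mv i₀ hy
  refine Cfsg.Agent.H138.RC.box_P_of (M := Function.update M i₀ K)
    (hLR ι (s := Function.update r i₀ q) ?_ ?_ ?_ ?_ ?_ ?_) hcov' L hL hL2 ?_
  · intro i
    rcases eq_or_ne i i₀ with rfl | hi
    · rw [Function.update_self, Function.update_self]; exact hyK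
    · rw [Function.update_of_ne hi, Function.update_of_ne hi]; exact hl i
  · intro i
    rcases eq_or_ne i i₀ with rfl | hi
    · rw [Function.update_self]; exact hq
    · rw [Function.update_of_ne hi]; exact hx.prime i
  · intro i
    rcases eq_or_ne i i₀ with rfl | hi
    · rw [Function.update_self]; exact hqp
    · rw [Function.update_of_ne hi]
      rintro h
      exact hi (hx.inj (h.trans hi₀.symm))
  · intro i
    rcases eq_or_ne i i₀ with rfl | hi
    · rw [Function.update_self, Function.update_self]; exact hyq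
    · rw [Function.update_of_ne hi, Function.update_of_ne hi]; exact hx.pow i
  · intro i
    rcases eq_or_ne i i₀ with rfl | hi
    · rw [Function.update_self]; exact hy1
    · rw [Function.update_of_ne hi]; exact hx.ne i
  · intro i j
    rcases eq_or_ne i i₀ with rfl | hi
    · rcases eq_or_ne j i with rfl | hj
      · rfl
      · rw [Function.update_self, Function.update_of_ne hj]; exact hcom j hj
    · rcases eq_or_ne j i₀ with rfl | hj
      · rw [Function.update_self, Function.update_of_ne hi]; exact (hcom i hi).symm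
      · rw [Function.update_of_ne hi, Function.update_of_ne hj]; exact hx.comm i j
  · intro i v hv
    rcases eq_or_ne i i₀ with rfl | hi
    · rw [Function.update_self, hKL v hv]; exact hv
    · rw [Function.update_of_ne hi]; exact hLi i hi v hv

/-- **BOX UU** (all `p`), from box F1 (the hypothesis `hLR`, form of `box_A_of`). -/
theorem box_UU_of [Nonempty Ω] (hG : Good Q) (hE : Env G Ω N) (hρ : Rep Q N ρ) {p : ℕ} [CharP F p]
    (hLR : ∀ (κ : Type z) [Finite κ] {y : κ → G} {L : κ → Gam Q} {s : κ → ℕ},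
      (∀ i, Lf ρ (y i) (L i)) → (∀ i, (s i).Prime) → (∀ i, s i ≠ p) → (∀ i, y i ^ s i = 1) → (∀ i, y i ≠ 1) →
      (∀ i j, y i * y j = y j * y i) → ∀ {u w : V} (hu : Q u = 0) (_ : Q w = 0) (huw : polar Q u w = 0),
      u ≠ 0 → (∀ a : F, w ≠ a • u) →
      (∀ i, ∀ v ∈ Submodule.span F {u, w}, (L i).1 v ∈ Submodule.span F {u, w}) →
      (∀ ω : Ω, ρ (AutOrth.SemiSim.sg Q u w hu huw) • ω = ω ∨ ∃ i, y i • ω = ω) → False)
    [Finite ι] {x : ι → G} {M : ι → Gam Q} {r : ι → ℕ}
    (hl : ∀ i, Lf ρ (x i) (M i)) (hx : PF x r) (hcov : Cov Ω x)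
    (T : ι → V ≃ₗ[F] V) (hTO : ∀ i, T i ∈ O Q) (hTM : ∀ i v, (M i).1 v = T i v)
    (hTr : ∀ i, T i ^ r i = 1) (hTc : ∀ i j, T i * T j = T j * T i) (i₀ : ι) (hi₀ : r i₀ = p)
    (D : Submodule F V) (hD4 : Module.finrank F D = 4) (hDn : Nondeg (Q.comp D.subtype))
    (hDi : ∀ i, ∀ v ∈ D, T i v ∈ D) (w w' : V) (hwD : w ∈ D) (hwD' : w' ∈ D) (hw : Q w = 0)
    (hw' : Q w' = 0) (hww : polar Q w w' = 0) (hw0 : w ≠ 0) (hind : ∀ a : F, w' ≠ a • w)
    (hu : ∀ v ∈ D, T i₀ v = siegel Q w w' hw hww v) (L : Submodule F V) (hL : ∀ v ∈ L, Q v = 0)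
    (hL2 : Module.finrank F L = 2) (hLD : ∀ v ∈ L, ∀ d ∈ D, polar Q v d = 0)
    (hLi : ∀ i, i ≠ i₀ → ∀ v ∈ L, T i v ∈ L) : False := by
  classical
  obtain ⟨f, g, hfD, hgD, h, hspan⟩ := exists_fr D hD4 hDn hwD hwD' hw hw' hww hw0 hind
  -- the members commute with `a` and `c`
  have hua : ∀ v ∈ D, T i₀ v = h.a v := hu
  have hrF : ∀ j, j ≠ i₀ → (r j : F) ≠ 0 := by
    intro j hj h0
    have h1 := (CharP.cast_eq_zero_iff F p (r j)).1 h0
    have hp1 : p ≠ 1 := by rw [← hi₀]; exact (hx.prime i₀).one_lt.ne'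
    exact hj (hx.inj ((((Nat.dvd_prime (hx.prime j)).1 h1).resolve_left hp1).symm.trans hi₀.symm))
  have hTa : ∀ j, j ≠ i₀ → ∀ v, T j (h.a v) = h.a (T j v) := by
    intro j hj
    apply h.comm_a (hTO j) (hTr j) (hx.prime j).ne_zero
    · intro y hy
      rw [hspan] at hy ⊢
      exact hDi j y hy
    · intro y hy
      rw [hspan] at hy
      rw [← hua y hy, ← hua _ (hDi j y hy)]
      exact congrArg (fun k : V ≃ₗ[F] V => k y) (hTc j i₀)
  have hTcc : ∀ j, j ≠ i₀ → ∀ v, T j (h.symm.a v) = h.symm.a (T j v) := by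
    intro j hj
    apply h.comm_opp (hTO j) (hTr j) (hrF j hj) (hTa j hj)
    · rw [hspan]; exact hDi j f hfD
    · rw [hspan]; exact hDi j g hgD
  -- the group elements
  obtain ⟨A, hA⟩ : ∃ A : V ≃ₗ[F] V, A = h.a := ⟨_, rfl⟩
  obtain ⟨C, hC⟩ : ∃ C : V ≃ₗ[F] V, C = h.symm.a := ⟨_, rfl⟩
  obtain ⟨B, hB⟩ : ∃ B : V ≃ₗ[F] V, B = A⁻¹ * T i₀ := ⟨_, rfl⟩
  have hAO : A ∈ O Q := by rw [hA]; exact h.a_mem
  have hBO : B ∈ O Q := by
    rw [hB]
    exact (O Q).mul_mem ((O Q).inv_mem hAO) (hTO i₀)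
  have hu' : T i₀ = A * B := by rw [hB, mul_inv_cancel_left]
  have hBD : ∀ v ∈ D, B v = v := by
    intro v hv
    have h1 : A (B v) = A v := by
      have h2 : A (B v) = T i₀ v := by rw [hu']; rfl
      rw [h2, hua v hv, hA]
    exact A.injective h1
  have hBA : B * A = A * B := by
    ext v
    rw [hA]
    exact h.comm_of_fix hBO (hBD w hwD) (hBD w' hwD') v
  have hBC : B * C = C * B := by
    ext v
    rw [hC]
    exact h.symm.comm_of_fix hBO (hBD f hfD) (hBD g hgD) v
  have hbr : A * C * A = C * A * C := by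
    ext v
    rw [hA, hC]
    exact h.braid v
  have hAp : A ^ p = 1 := by
    ext v
    rw [hA, h.a_pow, CharP.cast_eq_zero, zero_smul, add_zero]
    rfl
  have hBp : B ^ p = 1 := by
    have h1 := hTr i₀
    rw [hu', hi₀, (show Commute A B from hBA.symm).mul_pow, hAp, one_mul] at h1
    exact h1
  obtain ⟨m, hm⟩ : ∃ m : V ≃ₗ[F] V, m = A * C * A := ⟨_, rfl⟩
  have hmA : m * A = C * m := by
    calc m * A = (A * C * A) * A := by rw [hm]
      _ = (C * A * C) * A := by rw [hbr]
      _ = C * (A * C * A) := by group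
      _ = C * m := by rw [hm]
  have hBm : B * m = m * B := by
    rw [hm, ← mul_assoc, ← mul_assoc, hBA, mul_assoc A B C, hBC, mul_assoc (A * C) A B, ← hBA]
    group
  have hmum : m * T i₀ * m⁻¹ = C * B := by
    rw [hu', ← mul_assoc, hmA, mul_assoc C m B, ← hBm]
    group
  -- the element `c = ρ(m)`
  obtain ⟨mE, hmE⟩ : ∃ mE : ↥(E Q), (mE : V ≃ₗ[F] V) = m := by
    refine ⟨⟨m, ?_⟩, rfl⟩
    rw [hm, hA, hC]
    exact (E Q).mul_mem ((E Q).mul_mem (siegel_mem_E h.qw h.wv) (siegel_mem_E h.qf h.fg)) (siegel_mem_E h.qw h.wv)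
  have hcj : ∀ j, j ≠ i₀ → ρ mE * x j = x j * ρ mE := by
    intro j hj
    have h1 := hl j mE
    have h2 : conjE Q (M j) mE = mE := by
      refine Rel.conjE_eq (g := T j) (hTM j) ?_
      intro v
      rw [hmE, hm, hA, hC]
      show T j (h.a (h.symm.a (h.a v))) = h.a (h.symm.a (h.a (T j v)))
      rw [hTa j hj, hTcc j hj, hTa j hj]
    rw [h2] at h1
    exact (mul_inv_eq_iff_eq_mul.1 h1).symm
  obtain ⟨x0, hx0⟩ : ∃ x0, x0 = x i₀ := ⟨_, rfl⟩
  have hx0j : ∀ j, x0 * x j = x j * x0 := fun j => by rw [hx0]; exact hx.comm i₀ j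
  obtain ⟨x1, hx1⟩ : ∃ x1, x1 = ρ mE * x0 * (ρ mE)⁻¹ := ⟨_, rfl⟩
  have hx1j : ∀ j, j ≠ i₀ → x1 * x j = x j * x1 := by
    intro j hj
    have e1 : Commute (ρ mE) (x j) := hcj j hj
    have e2 : Commute x0 (x j) := hx0j j
    rw [hx1]
    exact (e1.mul_left e2).mul_left e1.inv_left
  have hmem0 : x0 ∈ Subgroup.closure {z | ∃ c : G, (∀ j, j ≠ i₀ → c * x j = x j * c) ∧ z = c * x i₀ * c⁻¹} :=
    Subgroup.subset_closure ⟨1, by simp, by rw [hx0]; simp⟩
  have hmem1 : x1 ∈ Subgroup.closure {z | ∃ c : G, (∀ j, j ≠ i₀ → c * x j = x j * c) ∧ z = c * x i₀ * c⁻¹} :=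
    Subgroup.subset_closure ⟨ρ mE, hcj, by rw [hx1, hx0]⟩
  obtain ⟨M1, hM1⟩ : ∃ M1 : Gam Q, M1 = tg Q mE * M i₀ * (tg Q mE)⁻¹ := ⟨_, rfl⟩
  have hl0 : Lf ρ x0 (M i₀) := by rw [hx0]; exact hl i₀
  have hl1 : Lf ρ x1 M1 := by
    rw [hx1, hM1]
    exact ((Lf.tg mE).mul hl0).mul (Lf.tg mE).inv
  have hr0 : Rel (M i₀) (A * B) := by
    intro v
    rw [hTM, hu']
  have hr1 : Rel M1 (C * B) := by
    rw [hM1, ← hmum]
    have h1 := Rel.tg mE
    rw [hmE] at h1
    exact (h1.mul (hTM i₀)).mul h1.inv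
  have hLw : ∀ l ∈ L, polar Q w l = 0 := fun l hl' => by rw [polar_comm]; exact hLD l hl' w hwD
  have hLw' : ∀ l ∈ L, polar Q w' l = 0 := fun l hl' => by rw [polar_comm]; exact hLD l hl' w' hwD'
  have hLf : ∀ l ∈ L, polar Q f l = 0 := fun l hl' => by rw [polar_comm]; exact hLD l hl' f hfD
  have hLg : ∀ l ∈ L, polar Q g l = 0 := fun l hl' => by rw [polar_comm]; exact hLD l hl' g hgD
  have hLA : ∀ l ∈ L, A l = l := by
    intro l hl'
    rw [hA, h.a_apply, hLw l hl', hLw' l hl']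
    simp
  have hLC : ∀ l ∈ L, C l = l := by
    intro l hl'
    rw [hC, h.c_apply, hLf l hl', hLg l hl']
    simp
  obtain ⟨l, hlL, hl0'⟩ : ∃ l ∈ L, l ≠ 0 := by
    by_contra hno
    push Not at hno
    have h1 : L = ⊥ := by
      rw [eq_bot_iff]
      intro y hy
      exact hno y hy
    rw [h1, finrank_bot] at hL2
    omega
  have hpp : p.Prime := by rw [← hi₀]; exact hx.prime i₀
  have hLM : ∀ i, i ≠ i₀ → ∀ v ∈ L, (M i).1 v ∈ L := fun i hi v hv => by rw [hTM]; exact hLi i hi v hv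
  rcases hpp.eq_two_or_odd' with hp2 | hodd
  · -- `p = 2`
    have h20 : (2 : F) = 0 := by
      have := CharP.cast_eq_zero F p
      rw [hp2] at this
      exact_mod_cast this
    have hrel : Rel (M i₀ * M1) (A * C) := by
      have h1 := hr0.mul hr1
      have h2 : A * B * (C * B) = A * C := by
        have h3 : B * B = 1 := by rw [← pow_two, ← hp2, hBp]
        calc A * B * (C * B) = A * (B * C) * B := by group
          _ = A * C * (B * B) := by rw [hBC]; group
          _ = A * C := by rw [h3, mul_one]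
      rwa [h2] at h1
    have h3 : (A * C) ^ 3 = 1 := by
      have h4 : (A * C) ^ 3 = m * m := by
        rw [pow_succ, pow_two, hm]
        nth_rewrite 2 [hbr]
        group
      rw [h4]
      ext v
      have h5 := h.mm v
      rw [h20, zero_smul, sub_zero] at h5
      rw [hm, hA, hC]
      exact h5
    refine core hLR hl hx hcov i₀ hi₀ L hL hL2 hLM (y := x0 * x1) (K := M i₀ * M1) (q := 3) Nat.prime_three
      (by omega) (hl0.mul hl1) ?_ ?_ ?_ ?_ (Subgroup.mul_mem _ hmem0 hmem1)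
    · rw [((hl0.mul hl1).pow 3).eq_one_iff hG hE hρ]
      refine ⟨1, one_ne_zero, fun v => ?_⟩
      rw [hrel.pow 3 v, h3, one_smul]
      rfl
    · rw [Ne, (hl0.mul hl1).eq_one_iff hG hE hρ]
      rintro ⟨a, -, ha⟩
      have e1 : a = 1 := by
        have := ha l
        rw [hrel l] at this
        change A (C l) = a • l at this
        rw [hLC l hlL, hLA l hlL] at this
        have h5 : (1 - a) • l = 0 := by rw [sub_smul, one_smul, ← this, sub_self]
        exact ((sub_eq_zero.1 ((smul_eq_zero.1 h5).resolve_right hl0'))).symm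
      have := ha f
      rw [hrel f, e1, one_smul] at this
      change A (C f) = f at this
      rw [hC, h.c_apply, h.ff, h.gf, zero_smul, zero_smul, add_zero, sub_zero, hA, h.a_apply, h.wf, h.vf, one_smul,
        zero_smul, sub_zero] at this
      have h5 : w' = 0 := by
        have h6 : f + w' = f + 0 := by rw [this, add_zero]
        exact add_left_cancel h6
      exact hind 0 (by rw [h5, zero_smul])
    · intro v hv
      rw [hrel v]
      show A (C v) = v
      rw [hLC v hv, hLA v hv]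
    · intro j hj
      have e1 : Commute x0 (x j) := hx0j j
      have e2 : Commute x1 (x j) := hx1j j hj
      exact e1.mul_left e2
  · -- `p` odd
    have h20 : (2 : F) ≠ 0 := by
      intro h0
      have h1 := (CharP.cast_eq_zero_iff F p 2).1 (by exact_mod_cast h0)
      have h2 := (Nat.dvd_prime Nat.prime_two).1 h1
      rcases h2 with h2 | h2
      · rw [h2] at hpp; exact Nat.not_prime_one hpp
      · rw [h2] at hodd
        exact absurd hodd (by decide)
    obtain ⟨Z, hZ⟩ : ∃ Z : V ≃ₗ[F] V, Z = m * m := ⟨_, rfl⟩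
    have hZx : ∀ v, Z v = v - (2 : F) • (polar Q f v • w + polar Q g v • w' + polar Q w v • f + polar Q w' v • g) := by
      intro v
      rw [hZ, hm, hA, hC]
      exact h.mm v
    have hZZ : Z * Z = 1 := by
      ext v
      show Z (Z v) = v
      rw [hZx (Z v), hZx v]
      simp only [polar_add_right, polar_sub_right, polar_smul_right, h.wf, h.vg, h.wv, h.wg, h.vf, h.fg,
        h.fw, h.gv, h.vw, h.gw, h.fv, h.gf, h.ww, h.vv, h.ff, h.gg, smul_eq_mul]
      module
    have hrel0 : Rel (M i₀ * M1 * M i₀) (m * B ^ 3) := by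
      have h1 := (hr0.mul hr1).mul hr0
      have h2 : A * B * (C * B) * (A * B) = m * B ^ 3 := by
        calc A * B * (C * B) * (A * B) = A * (B * C) * (B * A) * B := by group
          _ = A * (C * B) * (A * B) * B := by rw [hBC, hBA]
          _ = A * C * (B * A) * (B * B) := by group
          _ = A * C * A * (B * B * B) := by rw [hBA]; group
          _ = m * B ^ 3 := by rw [hm, pow_succ, pow_two]
      rwa [h2] at h1
    have hrel : Rel ((M i₀ * M1 * M i₀) ^ (2 * p)) Z := by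
      have h1 := hrel0.pow (2 * p)
      have h2 : (m * B ^ 3) ^ (2 * p) = Z := by
        have e1 : Commute m (B ^ 3) := (show Commute m B from hBm.symm).pow_right 3
        rw [e1.mul_pow, ← pow_mul B, show 3 * (2 * p) = p * 6 by ring, pow_mul B, hBp, one_pow, mul_one, pow_mul,
          pow_two, ← hZ]
        obtain ⟨k, hk⟩ := hodd
        rw [hk, pow_succ, pow_mul, pow_two, hZZ, one_pow, one_mul]
      rwa [h2] at h1
    have hlz : Lf ρ ((x0 * x1 * x0) ^ (2 * p)) ((M i₀ * M1 * M i₀) ^ (2 * p)) := ((hl0.mul hl1).mul hl0).pow _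
    refine core hLR hl hx hcov i₀ hi₀ L hL hL2 hLM (y := (x0 * x1 * x0) ^ (2 * p))
      (K := (M i₀ * M1 * M i₀) ^ (2 * p)) (q := 2) Nat.prime_two ?_ hlz ?_ ?_ ?_ ?_
      (Subgroup.pow_mem _ (Subgroup.mul_mem _ (Subgroup.mul_mem _ hmem0 hmem1) hmem0) _)
    · rintro rfl
      exact absurd hodd (by decide)
    · rw [(hlz.pow 2).eq_one_iff hG hE hρ]
      refine ⟨1, one_ne_zero, fun v => ?_⟩
      rw [hrel.pow 2 v, pow_two, hZZ, one_smul]
      rfl
    · rw [Ne, hlz.eq_one_iff hG hE hρ]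
      rintro ⟨a, -, ha⟩
      have hZl : Z l = l := by
        rw [hZx, hLw l hlL, hLw' l hlL, hLf l hlL, hLg l hlL]
        simp
      have e1 : a = 1 := by
        have := ha l
        rw [hrel l, hZl] at this
        have h5 : (1 - a) • l = 0 := by rw [sub_smul, one_smul, ← this, sub_self]
        exact ((sub_eq_zero.1 ((smul_eq_zero.1 h5).resolve_right hl0'))).symm
      have := ha w
      rw [hrel w, e1, one_smul, hZx, h.fw, h.gw, h.ww, h.vw, one_smul, zero_smul, zero_smul, zero_smul, add_zero,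
        add_zero, add_zero, sub_eq_self, smul_eq_zero] at this
      rcases this with h5 | h5
      · exact h20 h5
      · exact hw0 h5
    · intro v hv
      rw [hrel v, hZx, hLw v hv, hLw' v hv, hLf v hv, hLg v hv]
      simp
    · intro j hj
      have e1 : Commute x0 (x j) := hx0j j
      have e2 : Commute x1 (x j) := hx1j j hj
      exact ((e1.mul_left e2).mul_left e1).pow_left _

end main

end Cfsg.Agent.H393.UU
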