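import Cfsg.Agent.AutOrth.SemiSim
import Cfsg.Agent.LieClassical.OrthTrans

/-!
# S3510, row F, box E8: linear algebra in a hyperbolic 4-space (helper393)

`Fr Q w v f g` : `⟨w, v⟩`, `⟨f, g⟩` totally singular planes in duality.

* `Fr.braid`, `Fr.mm` : `a = siegel w v`, `c = siegel f g`: `a c a = c a c`, `(a c a)² = -1` on `⟨w, v, f, g⟩`;
* `Fr.comm_opp` : an isometry `T` with `T ^ r = 1`, `r ≠ 0` in `F`, preserving the 4-space and commuting with `a`, commutes
  with `c`.
-/

set_option autoImplicit false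
set_option linter.unusedSimpArgs false
open Cfsg

namespace Cfsg.Agent.H393.UU

open QuadraticMap
open Cfsg.Agent.LieClassical.OrthCore Cfsg.Agent.LieClassical.OrthTrans

variable {F V : Type*} [Field F] [AddCommGroup V] [Module F V] {Q : QuadraticForm F V}

/-- two totally singular planes in duality -/
structure Fr (Q : QuadraticForm F V) (w v f g : V) : Prop where
  qw : Q w = 0
  qv : Q v = 0
  qf : Q f = 0
  qg : Q g = 0
  wf : polar Q w f = 1
  vg : polar Q v g = 1
  wv : polar Q w v = 0
  wg : polar Q w g = 0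
  vf : polar Q v f = 0
  fg : polar Q f g = 0

namespace Fr

variable {w v f g : V}

theorem fw (h : Fr Q w v f g) : polar Q f w = 1 := by rw [polar_comm]; exact h.wf
theorem gv (h : Fr Q w v f g) : polar Q g v = 1 := by rw [polar_comm]; exact h.vg
theorem vw (h : Fr Q w v f g) : polar Q v w = 0 := by rw [polar_comm]; exact h.wv
theorem gw (h : Fr Q w v f g) : polar Q g w = 0 := by rw [polar_comm]; exact h.wg
theorem fv (h : Fr Q w v f g) : polar Q f v = 0 := by rw [polar_comm]; exact h.vf
theorem gf (h : Fr Q w v f g) : polar Q g f = 0 := by rw [polar_comm]; exact h.fg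
theorem ww (h : Fr Q w v f g) : polar Q w w = 0 := polar_self_of_sing h.qw
theorem vv (h : Fr Q w v f g) : polar Q v v = 0 := polar_self_of_sing h.qv
theorem ff (h : Fr Q w v f g) : polar Q f f = 0 := polar_self_of_sing h.qf
theorem gg (h : Fr Q w v f g) : polar Q g g = 0 := polar_self_of_sing h.qg

theorem symm (h : Fr Q w v f g) : Fr Q f g w v :=
  ⟨h.qf, h.qg, h.qw, h.qv, h.fw, h.gv, h.fg, h.fv, h.gw, h.wv⟩

/-- `a = siegel w v` -/
noncomputable def a (h : Fr Q w v f g) : V ≃ₗ[F] V := siegel Q w v h.qw h.wv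

theorem a_apply (h : Fr Q w v f g) (x : V) : h.a x = x + polar Q w x • v - polar Q v x • w := by
  rw [a, siegel_apply, h.qv, zero_mul, zero_smul, sub_zero]

theorem a_mem (h : Fr Q w v f g) : h.a ∈ O Q := siegel_mem_O h.qw h.wv

theorem c_apply (h : Fr Q w v f g) (x : V) : h.symm.a x = x + polar Q f x • g - polar Q g x • f := h.symm.a_apply x

/-- the braid relation -/
theorem braid (h : Fr Q w v f g) (x : V) : h.a (h.symm.a (h.a x)) = h.symm.a (h.a (h.symm.a x)) := by
  simp only [h.a_apply, h.c_apply, polar_add_right, polar_sub_right, polar_smul_right, h.wf, h.vg, h.wv, h.wg, h.vf, h.fg,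
    h.fw, h.gv, h.vw, h.gw, h.fv, h.gf, h.ww, h.vv, h.ff, h.gg, smul_eq_mul]
  module

/-- `m x` -/
theorem m_apply (h : Fr Q w v f g) (x : V) : h.a (h.symm.a (h.a x)) =
    x - (polar Q f x • w + polar Q g x • v + polar Q w x • f + polar Q v x • g) +
      (polar Q w x • v - polar Q v x • w + polar Q f x • g - polar Q g x • f) := by
  simp only [h.a_apply, h.c_apply, polar_add_right, polar_sub_right, polar_smul_right, h.wf, h.vg, h.wv, h.wg, h.vf, h.fg,
    h.fw, h.gv, h.vw, h.gw, h.fv, h.gf, h.ww, h.vv, h.ff, h.gg, smul_eq_mul]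
  module

/-- `m² = -1` on the 4-space -/
theorem mm (h : Fr Q w v f g) (x : V) : h.a (h.symm.a (h.a (h.a (h.symm.a (h.a x))))) =
    x - (2 : F) • (polar Q f x • w + polar Q g x • v + polar Q w x • f + polar Q v x • g) := by
  rw [h.m_apply (h.a (h.symm.a (h.a x))), h.m_apply x]
  simp only [polar_add_right, polar_sub_right, polar_smul_right, h.wf, h.vg, h.wv, h.wg, h.vf, h.fg,
    h.fw, h.gv, h.vw, h.gw, h.fv, h.gf, h.ww, h.vv, h.ff, h.gg, smul_eq_mul]
  module

/-- the coordinates -/
theorem exists_coord {x : V} (h : Fr Q w v f g) (hx : x ∈ Submodule.span F {w, v, f, g}) :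
    x = polar Q f x • w + polar Q g x • v + polar Q w x • f + polar Q v x • g := by
  have key : ∀ y ∈ Submodule.span F {w, v, f, g}, y = polar Q f y • w + polar Q g y • v + polar Q w y • f + polar Q v y • g := by
    intro y hy
    induction hy using Submodule.span_induction with
    | mem y hy =>
      simp only [Set.mem_insert_iff, Set.mem_singleton_iff] at hy
      rcases hy with rfl | rfl | rfl | rfl
      · rw [h.fw, h.gw, h.ww, h.vw]; simp
      · rw [h.fv, h.gv, h.wv, h.vv]; simp
      · rw [h.ff, h.gf, h.wf, h.vf]; simp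
      · rw [h.fg, h.gg, h.wg, h.vg]; simp
    | zero => simp
    | add y z _ _ hy hz =>
      simp only [polar_add_right]
      nth_rewrite 1 [hy, hz]
      module
    | smul c y _ hy =>
      simp only [polar_smul_right, smul_eq_mul]
      nth_rewrite 1 [hy]
      module
  exact key x hx

/-- **an isometry of `p'`-order commuting with the long root element of `⟨w, v⟩` commutes with the long root elements of
all opposite planes** -/
theorem comm_opp (h : Fr Q w v f g) {T : V ≃ₗ[F] V} (hT : T ∈ O Q) {r : ℕ} (hr : T ^ r = 1) (hrF : (r : F) ≠ 0)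
    (hTa : ∀ x, T (h.a x) = h.a (T x)) (hf : T f ∈ Submodule.span F {w, v, f, g}) (hg : T g ∈ Submodule.span F {w, v, f, g})
    (x : V) : T (h.symm.a x) = h.symm.a (T x) := by
  -- the matrix on `⟨w, v⟩`
  obtain ⟨a0, ha0⟩ : ∃ a0, a0 = polar Q v (T g) := ⟨_, rfl⟩
  obtain ⟨b0, hb0⟩ : ∃ b0, b0 = -polar Q w (T g) := ⟨_, rfl⟩
  obtain ⟨c0, hc0⟩ : ∃ c0, c0 = -polar Q v (T f) := ⟨_, rfl⟩
  obtain ⟨d0, hd0⟩ : ∃ d0, d0 = polar Q w (T f) := ⟨_, rfl⟩
  have hb0' : polar Q w (T g) = -b0 := by rw [hb0, neg_neg]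
  have hc0' : polar Q v (T f) = -c0 := by rw [hc0, neg_neg]
  have hTv : T v = c0 • w + d0 • v := by
    have h1 := hTa f
    rw [h.a_apply, h.a_apply, h.wf, h.vf, one_smul, zero_smul, sub_zero, map_add, ← hd0, hc0'] at h1
    have h2 := add_left_cancel (h1.trans (add_sub_assoc _ _ _))
    rw [h2]
    module
  have hTw : T w = a0 • w + b0 • v := by
    have h1 := hTa g
    rw [h.a_apply, h.a_apply, h.wg, h.vg, one_smul, zero_smul, add_zero, map_sub, ← ha0, hb0'] at h1
    have h2 : T w = T g - (T g + -b0 • v - a0 • w) := by rw [← h1]; module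
    rw [h2]
    module
  have hdet : a0 * d0 - b0 * c0 = 1 := by
    have h1 : polar Q (T w) (T f) = 1 := by rw [polar_map hT]; exact h.wf
    rw [hTw, polar_add_left, polar_smul_left, polar_smul_left, ← hd0, hc0', smul_eq_mul, smul_eq_mul] at h1
    linear_combination h1
  -- the images of `f`, `g`
  obtain ⟨α, hα⟩ : ∃ α, α = polar Q f (T f) := ⟨_, rfl⟩
  obtain ⟨β, hβ⟩ : ∃ β, β = polar Q g (T f) := ⟨_, rfl⟩
  obtain ⟨α', hα'⟩ : ∃ α', α' = polar Q f (T g) := ⟨_, rfl⟩
  obtain ⟨β', hβ'⟩ : ∃ β', β' = polar Q g (T g) := ⟨_, rfl⟩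
  have hTf : T f = α • w + β • v + d0 • f - c0 • g := by
    have h1 := h.exists_coord hf
    rw [← hα, ← hβ, ← hd0, hc0'] at h1
    rw [h1]
    module
  have hTg : T g = α' • w + β' • v - b0 • f + a0 • g := by
    have h1 := h.exists_coord hg
    rw [← hα', ← hβ', ← ha0, hb0'] at h1
    rw [h1]
    module
  have hexp : ∀ α β γ δ : F, Q (α • w + β • v + γ • f + δ • g) = α * γ + β * δ := by
    intro α β γ δ
    simp only [Q_add, QuadraticMap.map_smul, polar_add_left, polar_smul_left, polar_smul_right, h.qw, h.qv, h.qf, h.qg,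
      h.wf, h.vg, h.wv, h.wg, h.vf, h.fg, smul_eq_mul]
    ring
  have hQf : α * d0 - β * c0 = 0 := by
    have h1 : Q (T f) = 0 := by rw [mem_O.1 hT]; exact h.qf
    have h2 : T f = α • w + β • v + d0 • f + (-c0) • g := by rw [hTf]; module
    rw [h2, hexp] at h1
    linear_combination h1
  have hQg : β' * a0 - α' * b0 = 0 := by
    have h1 : Q (T g) = 0 := by rw [mem_O.1 hT]; exact h.qg
    have h2 : T g = α' • w + β' • v + (-b0) • f + a0 • g := by rw [hTg]; module
    rw [h2, hexp] at h1
    linear_combination h1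
  have hBfg : -(α * b0) + β * a0 + α' * d0 - β' * c0 = 0 := by
    have h1 : polar Q (T f) (T g) = 0 := by rw [polar_map hT]; exact h.fg
    rw [hTf, hTg] at h1
    simp only [polar_add_left, polar_sub_left, polar_smul_left, polar_add_right, polar_sub_right, polar_smul_right, h.wf,
      h.vg, h.wv, h.wg, h.vf, h.fg, h.fw, h.gv, h.vw, h.gw, h.fv, h.gf, h.ww, h.vv, h.ff, h.gg, smul_eq_mul] at h1
    linear_combination h1
  obtain ⟨s, hs⟩ : ∃ s, s = a0 * β - b0 * α := ⟨_, rfl⟩
  have e1 : α = s * c0 := by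
    rw [hs]
    linear_combination (-α) * hdet + a0 * hQf
  have e2 : β = s * d0 := by
    rw [hs]
    linear_combination (-β) * hdet + b0 * hQf
  have e3 : α' = -(s * a0) := by
    rw [hs]
    linear_combination (-α') * hdet + c0 * hQg + a0 * hBfg
  have e4 : β' = -(s * b0) := by
    rw [hs]
    linear_combination (-β') * hdet + d0 * hQg + b0 * hBfg
  have hTf' : T f = d0 • f - c0 • g + s • T v := by
    rw [hTf, hTv, e1, e2]
    module
  have hTg' : T g = a0 • g - b0 • f - s • T w := by
    rw [hTg, hTw, e3, e4]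
    module
  -- iteration
  have hP : ∀ n : ℕ, ∃ m m' : V, m ∈ Submodule.span F {f, g} ∧ m' ∈ Submodule.span F {f, g} ∧
      (T ^ n) f = m + ((n : F) * s) • (T ^ n) v ∧ (T ^ n) g = m' - ((n : F) * s) • (T ^ n) w := by
    intro n
    induction n with
    | zero =>
      refine ⟨f, g, Submodule.subset_span (by simp), Submodule.subset_span (by simp), ?_, ?_⟩
      · simp
      · simp
    | succ n ih =>
      obtain ⟨m, m', hm, hm', h1, h2⟩ := ih
      have hpow : ∀ y, (T ^ (n + 1)) y = (T ^ n) (T y) := fun y => by rw [pow_succ]; rfl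
      have h3 : (T ^ n) (T v) = c0 • (T ^ n) w + d0 • (T ^ n) v := by rw [hTv, map_add, map_smul, map_smul]
      have h4 : (T ^ n) (T w) = a0 • (T ^ n) w + b0 • (T ^ n) v := by rw [hTw, map_add, map_smul, map_smul]
      refine ⟨d0 • m - c0 • m', a0 • m' - b0 • m, ?_, ?_, ?_, ?_⟩
      · exact Submodule.sub_mem _ (Submodule.smul_mem _ _ hm) (Submodule.smul_mem _ _ hm')
      · exact Submodule.sub_mem _ (Submodule.smul_mem _ _ hm') (Submodule.smul_mem _ _ hm)
      · rw [hpow, hpow, hTf', map_add, map_sub, map_smul, map_smul, map_smul, h1, h2, h3]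
        push_cast
        module
      · rw [hpow, hpow, hTg', map_sub, map_sub, map_smul, map_smul, map_smul, h1, h2, h4]
        push_cast
        module
  have hs0 : s = 0 := by
    obtain ⟨m, m', hm, -, h1, -⟩ := hP r
    rw [hr] at h1
    have h2 : polar Q g m = 0 := by
      obtain ⟨y, z, rfl⟩ := Submodule.mem_span_pair.1 hm
      rw [polar_add_right, polar_smul_right, polar_smul_right, h.gf, h.gg]
      simp
    have h3 : f = m + ((r : F) * s) • v := h1
    have h4 : polar Q g f = (r : F) * s := by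
      rw [h3, polar_add_right, polar_smul_right, h2, h.gv]
      simp
    rw [h.gf] at h4
    exact (mul_eq_zero.1 h4.symm).resolve_left hrF
  rw [hs0, zero_smul, add_zero] at hTf'
  rw [hs0, zero_smul, sub_zero] at hTg'
  -- the inverse images
  have h5 : f = T (a0 • f + c0 • g) := by
    rw [map_add, map_smul, map_smul, hTf', hTg']
    have : f = (a0 * d0 - b0 * c0) • f := by rw [hdet, one_smul]
    nth_rewrite 1 [this]
    module
  have h6 : g = T (b0 • f + d0 • g) := by
    rw [map_add, map_smul, map_smul, hTf', hTg']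
    have : g = (a0 * d0 - b0 * c0) • g := by rw [hdet, one_smul]
    nth_rewrite 1 [this]
    module
  have h7 : polar Q f (T x) = a0 * polar Q f x + c0 * polar Q g x := by
    nth_rewrite 1 [h5]
    rw [polar_map hT, polar_add_left, polar_smul_left, polar_smul_left]
    rfl
  have h8 : polar Q g (T x) = b0 * polar Q f x + d0 * polar Q g x := by
    nth_rewrite 1 [h6]
    rw [polar_map hT, polar_add_left, polar_smul_left, polar_smul_left]
    rfl
  rw [h.c_apply, h.c_apply, h7, h8, map_sub, map_add, map_smul, map_smul, hTf', hTg']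
  module

end Fr

end Cfsg.Agent.H393.UU
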